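import Cfsg.Agent.F43.Mod

/-! Finite facts on `Sp₆(2)`. -/

set_option autoImplicit false
set_option maxRecDepth 100000
set_option linter.unusedSimpArgs false
set_option linter.unusedSectionVars false
set_option linter.unusedVariables false
set_option maxHeartbeats 1000000

namespace Cfsg.Lib.S62

open Subgroup Cfsg.Lib.Spor Cfsg.Lib.Spor.Bulk Cfsg.Lib.Spor.PK Cfsg.Lib.Spor.WF Cfsg.Lib.F43

variable {G : Type*} [Group G] {a1 b1 a2 b2 a3 b3 x c d : G}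

/-- more subgroups -/
@[reducible] def NSb : PM := { NS with
  SW := [([[2,1],[4,3],[6,5]],
    [⟨2, [1344, 1026, 768, 386, 898, 1602, 1474, 450], [[1]]⟩,
     ⟨1, [1536, 1280], []⟩]),
   ([[1],[2],[3],[4],[9]],
    [⟨2, [1344, 769, 1092, 835, 578], [[2, 0, 1, 0, 3], [4, 0, 1, 0, 4]]⟩,
     ⟨3, [1152, 257, 1408, 1216, 1664, 704, 960, 512, 1], [[0, 0, 0, 0, 1, 0, 1], [0, 1, 0, 0, 0, 0, 0]]⟩,
     ⟨0, [256, 961, 1664, 1408, 1217], [[0, 0, 1]]⟩,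
     ⟨1, [1280], []⟩]),
   ([[3],[4],[5],[6],[8]],
    [⟨3, [960, 1409, 1604, 451, 770], [[0, 1, 0, 2, 4], [3, 2, 3]]⟩,
     ⟨2, [896, 1025, 1216, 256], [[0, 1, 0], [1, 0, 1, 0, 0, 1]]⟩,
     ⟨1, [1728, 833, 640, 0, 1280], [[1, 0, 0, 1, 1], [0, 1]]⟩,
     ⟨0, [832, 1729, 1281], []⟩])] }

instance : NeZero NSb.n := ⟨by decide⟩

theorem NSb_ok : NSb.ok = true := NS_ok

theorem NSb_subs : NSb.subsOK = true := by decide +kernel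

theorem NSb_s0 : sub (gNS a1 b1 a2 b2 a3 b3 x c d) (NSb.W 0) = gen [a1 * b1, a2 * b2, a3 * b3] := by
  change gen (List.map (wv _) [[2,1],[4,3],[6,5]]) = _
  simp only [List.map_cons, List.map_nil, wv_cons, wv_nil, one_mul, gNS_1, gNS_2, gNS_3, gNS_4, gNS_5, gNS_6, gNS_7, gNS_8, gNS_9]

theorem NSb_s1 : sub (gNS a1 b1 a2 b2 a3 b3 x c d) (NSb.W 1) = gen [a1, b1, a2, b2, d] := by
  change gen (List.map (wv _) [[1],[2],[3],[4],[9]]) = _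
  simp only [List.map_cons, List.map_nil, wv_cons, wv_nil, one_mul, gNS_1, gNS_2, gNS_3, gNS_4, gNS_5, gNS_6, gNS_7, gNS_8, gNS_9]

theorem NSb_s2 : sub (gNS a1 b1 a2 b2 a3 b3 x c d) (NSb.W 2) = gen [a2, b2, a3, b3, c] := by
  change gen (List.map (wv _) [[3],[4],[5],[6],[8]]) = _
  simp only [List.map_cons, List.map_nil, wv_cons, wv_nil, one_mul, gNS_1, gNS_2, gNS_3, gNS_4, gNS_5, gNS_6, gNS_7, gNS_8, gNS_9]

theorem kb_card_D (he : Emb NS.m (gNS a1 b1 a2 b2 a3 b3 x c d)) : Nat.card (gen [a1 * b1, a2 * b2, a3 * b3] : Subgroup G) = 27 :=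
  NSb_s0 (G := G) ▸ (PM.card_of_emb NSb_ok NSb_subs (show Emb NSb.m _ from he) 0).trans (by decide +kernel)

theorem kb_sq (he : Emb NS.m (gNS a1 b1 a2 b2 a3 b3 x c d)) :
    a1 * a1 = 1 ∧ b1 * b1 = 1 ∧ a2 * a2 = 1 ∧ b2 * b2 = 1 ∧ a3 * a3 = 1 ∧ b3 * b3 = 1 ∧ x * x = 1 ∧ c *
    c = 1 ∧ d * d = 1 := by
  have := PM.holds NSb_ok NSb_subs (show Emb NSb.m _ from he) (p := (.and (.eq [1,1] []) (.and (.eq [2,2] []) (.and (.eq [3,3] []) (.and (.eq [4,4] []) (.and (.eq [5,5]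
      []) (.and (.eq [6,6] []) (.and (.eq [7,7] []) (.and (.eq [8,8] []) (.eq [9,9] [])))))))))) (by decide +kernel)
  simp only [Fm.sem, wv_cons, wv_nil, one_mul, upd_apply, Nat.reduceEqDiff, ↓reduceIte, gNS_1, gNS_2, gNS_3, gNS_4, gNS_5, gNS_6, gNS_7, gNS_8, gNS_9, NSb_s0, NSb_s1, NSb_s2, exists_eq_right'] at this
  exact this

theorem kb_e (he : Emb NS.m (gNS a1 b1 a2 b2 a3 b3 x c d)) :
    a1 * b1 * a1 * b1 * a1 * b1 = 1 ∧ a2 * b2 * a2 * b2 * a2 * b2 = 1 ∧ a3 * b3 * a3 * b3 * a3 * b3 = 1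
    ∧ ¬ a1 * b1 = 1 ∧ ¬ a2 * b2 = 1 ∧ ¬ a3 * b3 = 1 ∧ ¬ a1 = 1 ∧ ¬ a2 = 1 ∧ ¬ a3 = 1 ∧ ¬ a1 = a2 := by
  have := PM.holds NSb_ok NSb_subs (show Emb NSb.m _ from he) (p := (.and (.eq [2,1,2,1,2,1] []) (.and (.eq [4,3,4,3,4,3] []) (.and (.eq [6,5,6,5,6,5] []) (.and (.not
      (.eq [2,1] [])) (.and (.not (.eq [4,3] [])) (.and (.not (.eq [6,5] [])) (.and (.not (.eq [1]
      [])) (.and (.not (.eq [3] [])) (.and (.not (.eq [5] [])) (.not (.eq [1] [3])))))))))))) (by decide +kernel)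
  simp only [Fm.sem, wv_cons, wv_nil, one_mul, upd_apply, Nat.reduceEqDiff, ↓reduceIte, gNS_1, gNS_2, gNS_3, gNS_4, gNS_5, gNS_6, gNS_7, gNS_8, gNS_9, NSb_s0, NSb_s1, NSb_s2, exists_eq_right'] at this
  exact this

theorem kb_cm (he : Emb NS.m (gNS a1 b1 a2 b2 a3 b3 x c d)) :
    a1 * a2 = a2 * a1 ∧ a1 * b2 = b2 * a1 ∧ a1 * a3 = a3 * a1 ∧ a1 * b3 = b3 * a1 ∧ b1 * a2 = a2 * b1 ∧
    b1 * b2 = b2 * b1 ∧ b1 * a3 = a3 * b1 ∧ b1 * b3 = b3 * b1 ∧ a2 * a3 = a3 * a2 ∧ a2 * b3 = b3 *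
    a2 ∧ b2 * a3 = a3 * b2 ∧ b2 * b3 = b3 * b2 := by
  have := PM.holds NSb_ok NSb_subs (show Emb NSb.m _ from he) (p := (.and (.eq [3,1] [1,3]) (.and (.eq [4,1] [1,4]) (.and (.eq [5,1] [1,5]) (.and (.eq [6,1] [1,6])
      (.and (.eq [3,2] [2,3]) (.and (.eq [4,2] [2,4]) (.and (.eq [5,2] [2,5]) (.and (.eq [6,2]
      [2,6]) (.and (.eq [5,3] [3,5]) (.and (.eq [6,3] [3,6]) (.and (.eq [5,4] [4,5]) (.eq [6,4]
      [4,6]))))))))))))) (by decide +kernel)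
  simp only [Fm.sem, wv_cons, wv_nil, one_mul, upd_apply, Nat.reduceEqDiff, ↓reduceIte, gNS_1, gNS_2, gNS_3, gNS_4, gNS_5, gNS_6, gNS_7, gNS_8, gNS_9, NSb_s0, NSb_s1, NSb_s2, exists_eq_right'] at this
  exact this

theorem kb_s12 (he : Emb NS.m (gNS a1 b1 a2 b2 a3 b3 x c d)) :
    ∃ s ∈ gen [a1, b1, a2, b2, d], s * s = 1 ∧ s * a1 * s = a2 ∧ s * b1 * s = b2 ∧ s * a3 = a3 * s ∧ s *
    b3 = b3 * s := by
  have := PM.holds NSb_ok NSb_subs (show Emb NSb.m _ from he) (p := (.ex 1 40 (.and (.eq [40,40] []) (.and (.eq [40,1,40] [3]) (.and (.eq [40,2,40] [4]) (.and (.eq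
      [5,40] [40,5]) (.eq [6,40] [40,6]))))))) (by decide +kernel)
  simp only [Fm.sem, wv_cons, wv_nil, one_mul, upd_apply, Nat.reduceEqDiff, ↓reduceIte, gNS_1, gNS_2, gNS_3, gNS_4, gNS_5, gNS_6, gNS_7, gNS_8, gNS_9, NSb_s0, NSb_s1, NSb_s2, exists_eq_right'] at this
  exact this

theorem kb_s23 (he : Emb NS.m (gNS a1 b1 a2 b2 a3 b3 x c d)) :
    ∃ s ∈ gen [a2, b2, a3, b3, c], s * s = 1 ∧ s * a2 * s = a3 ∧ s * b2 * s = b3 ∧ s * a1 = a1 * s ∧ s *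
    b1 = b1 * s := by
  have := PM.holds NSb_ok NSb_subs (show Emb NSb.m _ from he) (p := (.ex 2 40 (.and (.eq [40,40] []) (.and (.eq [40,3,40] [5]) (.and (.eq [40,4,40] [6]) (.and (.eq
      [1,40] [40,1]) (.eq [2,40] [40,2]))))))) (by decide +kernel)
  simp only [Fm.sem, wv_cons, wv_nil, one_mul, upd_apply, Nat.reduceEqDiff, ↓reduceIte, gNS_1, gNS_2, gNS_3, gNS_4, gNS_5, gNS_6, gNS_7, gNS_8, gNS_9, NSb_s0, NSb_s1, NSb_s2, exists_eq_right'] at this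
  exact this

theorem kb_nc (he : Emb NS.m (gNS a1 b1 a2 b2 a3 b3 x c d)) :
    Nat.card ↥(gen [a1, b1, a2, b2, a3, b3, x, c, d] ⊓ centralizer {a1}) = 23040 ∧
      (¬ ∃ k ∈ gen [a1, b1, a2, b2, a3, b3, x, c, d], k * (a1 * a2) = a1 * k) ∧
      (¬ ∃ k ∈ gen [a1, b1, a2, b2, a3, b3, x, c, d], k * (a1 * a2 * a3) = a1 * k) := by
  have := PM.cent_of_emb NS_ok he (W := NS.W 0) (cert := [⟨2, [1344, 769, 900, 1476, 452, 1734, 1096, 1029, 389, 1605, 323, 69, 835, 518, 1223, 1415, 642, 1541, 583, 7,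
    1667, 707, 195, 1285, 966, 1154, 264], [[4, 5, 6, 3, 7, 3, 6, 5, 4, 6], [1, 6, 3, 5, 6, 2, 3, 7, 5, 4, 1,
    7]]⟩,
     ⟨21, [1473, 193, 1280, 385, 1600, 705, 1216, 961, 1153, 1024, 1, 1664, 65, 769, 512, 1536, 1089, 577, 449,
    1409, 321, 1728, 640, 833, 257, 897], [[1, 1, 0, 1, 1, 1, 1, 1, 0, 1, 1], [1, 1, 1, 0, 1, 1, 0, 0, 1, 1,
    1, 1, 1]]⟩,
     ⟨4, [1472, 1152, 705, 896, 384, 1025, 1665, 1216, 512], [[0, 1, 1, 0, 1, 0, 0, 1, 0], [0, 1, 1, 0, 0, 0, 1,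
    0]]⟩,
     ⟨18, [], [[0], [1]]⟩,
     ⟨6, [1216, 705, 896, 1024, 513, 1664, 1472], [[1, 1, 0, 1], [1, 0, 0, 0, 1]]⟩,
     ⟨16, [], [[0], [1]]⟩,
     ⟨8, [896, 1473, 704, 1664, 1217], [[0, 0, 1, 1, 0], [0, 1]]⟩,
     ⟨19, [], [[0], [1]]⟩,
     ⟨11, [1664, 1473, 897], []⟩])
    (es := [1]) (x := [1]) (N := 1451520) (c := 23040) (ncs := [[3,1],[5,3,1]])
    ((PM.card_sub NS_ok NS_subs 0).trans (by decide +kernel)) (by decide +kernel)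
  simpa only [wv_cons, wv_nil, one_mul, List.forall_mem_cons, List.not_mem_nil, IsEmpty.forall_iff, implies_true, and_true, gNS_1, gNS_2, gNS_3, gNS_4, gNS_5, gNS_6, gNS_7, gNS_8, gNS_9, gNS_s0, exists_eq_right'] using this

end Cfsg.Lib.S62
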