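import Cfsg.Agent.S62.K0

/-! Finite checks in the model of `Sp₆(2)`: centralizers of elements of order three. -/

set_option autoImplicit false
set_option maxRecDepth 100000
set_option linter.unusedSimpArgs false
set_option linter.unusedSectionVars false
set_option linter.unusedVariables false
set_option maxHeartbeats 1000000

namespace Cfsg.Lib.S62.KC

open Subgroup Cfsg.Lib.Spor Cfsg.Lib.Spor.Bulk Cfsg.Lib.Spor.PK Cfsg.Lib.Spor.WF Cfsg.Lib.F43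

variable {G : Type*} [Group G] {a1 b1 a2 b2 a3 b3 x c d : G}

/-- more subgroups -/
@[reducible] def KCM : PM := { NS with
  SW := [([[2,1],[4,3],[6,5]],
    [⟨2, [1344, 1026, 768, 386, 898, 1602, 1474, 450], [[1]]⟩,
     ⟨1, [1536, 1280], []⟩]),
   ([[1],[2],[4,3],[6,5]],
    [⟨2, [1344, 769, 1027, 387, 1603, 899, 1475, 451], [[0, 1, 0], [2]]⟩,
     ⟨1, [1537, 1281], [[0]]⟩,
     ⟨3, [1664], []⟩]),
   ([[2,1],[4,3],[6,5],[7,6,4,2,7,5,3,1]],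
    [⟨2, [1344, 1026, 1219, 768, 386, 1603, 898, 1283, 512, 705, 1091, 835, 1474, 1667, 450, 65, 642, 259, 1408,
    1155, 577, 1538, 195, 1731, 963, 323], [[0, 3, 2, 2, 0], [0, 0, 3, 2, 1, 2, 3, 2, 0]]⟩,
     ⟨1, [1536, 1153, 768, 897, 1280, 513, 1665], [[0, 1, 0]]⟩,
     ⟨10, [1024, 1408], []⟩]),
   ([[8],[3],[4],[5],[6],[2,1]],
    [⟨0, [64, 1538, 1732, 1281, 324, 1091, 644, 576, 835], [[2, 5], [1, 0, 2, 4, 3, 0, 4, 1, 2, 0]]⟩,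
     ⟨3, [1216, 1601, 1664, 129, 1024, 961, 1408, 385, 1344, 257, 449, 704, 769, 1153, 513, 897, 1473], [[1, 0, 1,
    0, 1, 0, 1], [0, 0, 1, 1, 1, 0, 1]]⟩,
     ⟨2, [896, 1025], [[1, 0], [0, 0, 0]]⟩,
     ⟨1, [640, 1281, 1729], []⟩]),
   ([[4,3],[6,5]],
    [⟨1, [1536, 1729, 1280, 321, 1089, 641, 833, 577], []⟩]),
   ([[2,1],[4,3],[6,5],[7,6,4,7,5,6,3,4,7,5,6,5,3,4,3,1]],
    [⟨2, [1344, 1026, 259, 768, 386, 1155, 898, 1219, 1602, 963, 1474, 515, 707, 450, 1411, 1667, 195], [[1]]⟩,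
     ⟨1, [1536, 1280], []⟩]),
   ([[1],[3],[5],[4,7,6,2,7,4,1,2,7,6,3,4,7,5,2,1]],
    [⟨2, [1344, 898, 643, 1474, 579, 323, 1667, 835, 1155, 707, 259], [[1]]⟩,
     ⟨3, [960], []⟩])] }

instance : NeZero KCM.n := ⟨by decide⟩

theorem KCM_ok : KCM.ok = true := NS_ok

theorem KCM_subs : KCM.subsOK = true := by decide +kernel

theorem KCM_s0 : sub (gNS a1 b1 a2 b2 a3 b3 x c d) (KCM.W 0) = gen [a1 * b1, a2 * b2, a3 * b3] := by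
  change gen (List.map (wv _) [[2,1],[4,3],[6,5]]) = _
  simp only [List.map_cons, List.map_nil, wv_cons, wv_nil, one_mul, gNS_1, gNS_2, gNS_3, gNS_4, gNS_5, gNS_6, gNS_7, gNS_8, gNS_9]

theorem KCM_s1 : sub (gNS a1 b1 a2 b2 a3 b3 x c d) (KCM.W 1) = gen [a1, b1, a2 * b2, a3 * b3] := by
  change gen (List.map (wv _) [[1],[2],[4,3],[6,5]]) = _
  simp only [List.map_cons, List.map_nil, wv_cons, wv_nil, one_mul, gNS_1, gNS_2, gNS_3, gNS_4, gNS_5, gNS_6, gNS_7, gNS_8, gNS_9]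

theorem KCM_s2 : sub (gNS a1 b1 a2 b2 a3 b3 x c d) (KCM.W 2) = gen [a1 * b1, a2 * b2, a3 * b3, a1 * a2 * a3 * x * b1 * b2 * b3 * x] := by
  change gen (List.map (wv _) [[2,1],[4,3],[6,5],[7,6,4,2,7,5,3,1]]) = _
  simp only [List.map_cons, List.map_nil, wv_cons, wv_nil, one_mul, gNS_1, gNS_2, gNS_3, gNS_4, gNS_5, gNS_6, gNS_7, gNS_8, gNS_9]

theorem KCM_s3 : sub (gNS a1 b1 a2 b2 a3 b3 x c d) (KCM.W 3) = gen [c, a2, b2, a3, b3, a1 * b1] := by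
  change gen (List.map (wv _) [[8],[3],[4],[5],[6],[2,1]]) = _
  simp only [List.map_cons, List.map_nil, wv_cons, wv_nil, one_mul, gNS_1, gNS_2, gNS_3, gNS_4, gNS_5, gNS_6, gNS_7, gNS_8, gNS_9]

theorem KCM_s4 : sub (gNS a1 b1 a2 b2 a3 b3 x c d) (KCM.W 4) = gen [a2 * b2, a3 * b3] := by
  change gen (List.map (wv _) [[4,3],[6,5]]) = _
  simp only [List.map_cons, List.map_nil, wv_cons, wv_nil, one_mul, gNS_1, gNS_2, gNS_3, gNS_4, gNS_5, gNS_6, gNS_7, gNS_8, gNS_9]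

theorem KCM_s5 : sub (gNS a1 b1 a2 b2 a3 b3 x c d) (KCM.W 5) = gen [a1 * b1, a2 * b2, a3 * b3, a1 * a2 * b2 * a2 * a3 * b3 * a3 * x * b2 * a2 * b3 * a3 * x * b2 * b3 * x] := by
  change gen (List.map (wv _) [[2,1],[4,3],[6,5],[7,6,4,7,5,6,3,4,7,5,6,5,3,4,3,1]]) = _
  simp only [List.map_cons, List.map_nil, wv_cons, wv_nil, one_mul, gNS_1, gNS_2, gNS_3, gNS_4, gNS_5, gNS_6, gNS_7, gNS_8, gNS_9]

theorem KCM_s6 : sub (gNS a1 b1 a2 b2 a3 b3 x c d) (KCM.W 6) = gen [a1, a2, a3, a1 * b1 * a3 * x * b2 * a2 * b3 * x * b1 * a1 * b2 * x * b1 * b3 * x * b2] := by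
  change gen (List.map (wv _) [[1],[3],[5],[4,7,6,2,7,4,1,2,7,6,3,4,7,5,2,1]]) = _
  simp only [List.map_cons, List.map_nil, wv_cons, wv_nil, one_mul, gNS_1, gNS_2, gNS_3, gNS_4, gNS_5, gNS_6, gNS_7, gNS_8, gNS_9]

theorem KCM_base : M12S.Base KCM [2,3,1,0,4,16,10] := K0.NS_base

theorem KCM_crd_D (he : Emb NS.m (gNS a1 b1 a2 b2 a3 b3 x c d)) : Nat.card (gen [a1 * b1, a2 * b2, a3 * b3] : Subgroup G) = 27 :=
  KCM_s0 (G := G) ▸ (PM.card_of_emb KCM_ok KCM_subs (show Emb KCM.m _ from he) 0).trans (by decide +kernel)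

theorem KCM_crd_C23 (he : Emb NS.m (gNS a1 b1 a2 b2 a3 b3 x c d)) : Nat.card (gen [a1, b1, a2 * b2, a3 * b3] : Subgroup G) = 54 :=
  KCM_s1 (G := G) ▸ (PM.card_of_emb KCM_ok KCM_subs (show Emb KCM.m _ from he) 1).trans (by decide +kernel)

theorem KCM_crd_DS (he : Emb NS.m (gNS a1 b1 a2 b2 a3 b3 x c d)) : Nat.card (gen [a1 * b1, a2 * b2, a3 * b3, a1 * a2 * b2 * a2 * a3 * b3 * a3 * x * b2 * a2 * b3 * a3 * x * b2 * b3 * x] : Subgroup G) = 54 :=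
  KCM_s5 (G := G) ▸ (PM.card_of_emb KCM_ok KCM_subs (show Emb KCM.m _ from he) 5).trans (by decide +kernel)

theorem f_cD (he : Emb NS.m (gNS a1 b1 a2 b2 a3 b3 x c d)) :
    ∀ g ∈ gen [a1, b1, a2 * b2, a3 * b3], g * a1 * b1 = a1 * b1 * g → g ∈ gen [a1 * b1, a2 * b2, a3 *
    b3] := by
  have := M12S.holdsB KCM_ok KCM_subs KCM_base (show Emb KCM.m _ from he) (p := (.all 1 40 (.imp (.eq [2,1,40] [40,2,1]) (.ex 0 41 (.eq [40] [41]))))) (by decide +kernel)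
  simp only [Fm.sem, wv_cons, wv_nil, one_mul, upd_apply, Nat.reduceEqDiff, ↓reduceIte, gNS_1, gNS_2, gNS_3, gNS_4, gNS_5, gNS_6, gNS_7, gNS_8, gNS_9, KCM_s0, KCM_s1, KCM_s2, KCM_s3, KCM_s4, KCM_s5, KCM_s6, exists_eq_right'] at this
  exact this

theorem f_cvz (he : Emb NS.m (gNS a1 b1 a2 b2 a3 b3 x c d)) :
    ∀ g ∈ gen [a1 * b1, a2 * b2, a3 * b3, a1 * a2 * a3 * x * b1 * b2 * b3 * x], g * a2 * b2 * b3 * a3 =
    a2 * b2 * b3 * a3 * g → g ∈ gen [a1 * b1, a2 * b2, a3 * b3] := by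
  have := M12S.holdsB KCM_ok KCM_subs KCM_base (show Emb KCM.m _ from he) (p := (.all 2 40 (.imp (.eq [5,6,4,3,40] [40,5,6,4,3]) (.ex 0 41 (.eq [40] [41]))))) (by decide +kernel)
  simp only [Fm.sem, wv_cons, wv_nil, one_mul, upd_apply, Nat.reduceEqDiff, ↓reduceIte, gNS_1, gNS_2, gNS_3, gNS_4, gNS_5, gNS_6, gNS_7, gNS_8, gNS_9, KCM_s0, KCM_s1, KCM_s2, KCM_s3, KCM_s4, KCM_s5, KCM_s6, exists_eq_right'] at this
  exact this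

theorem f_three (he : Emb NS.m (gNS a1 b1 a2 b2 a3 b3 x c d)) :
    ∀ g ∈ gen [c, a2, b2, a3, b3, a1 * b1], g * a2 * b2 * a3 * b3 = a2 * b2 * a3 * b3 * g → g * g * g =
    1 → g ∈ gen [a1 * b1, a2 * b2, a3 * b3] := by
  have := M12S.holdsB KCM_ok KCM_subs KCM_base (show Emb KCM.m _ from he) (p := (.all 3 40 (.imp (.eq [6,5,4,3,40] [40,6,5,4,3]) (.imp (.eq [40,40,40] []) (.ex 0 41 (.eq [40]
      [41])))))) (by decide +kernel)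
  simp only [Fm.sem, wv_cons, wv_nil, one_mul, upd_apply, Nat.reduceEqDiff, ↓reduceIte, gNS_1, gNS_2, gNS_3, gNS_4, gNS_5, gNS_6, gNS_7, gNS_8, gNS_9, KCM_s0, KCM_s1, KCM_s2, KCM_s3, KCM_s4, KCM_s5, KCM_s6, exists_eq_right'] at this
  exact this

theorem f_c23a (he : Emb NS.m (gNS a1 b1 a2 b2 a3 b3 x c d)) :
    ∀ g ∈ gen [a1, b1, a2 * b2, a3 * b3], g * a1 = a1 * g → (g ∈ gen [a2 * b2, a3 * b3] ∨ g * a1 ∈ gen
    [a2 * b2, a3 * b3]) := by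
  have := M12S.holdsB KCM_ok KCM_subs KCM_base (show Emb KCM.m _ from he) (p := (.all 1 40 (.imp (.eq [1,40] [40,1]) (.or (.ex 4 41 (.eq [40] [41])) (.ex 4 41 (.eq [1,40] [41])))))) (by decide +kernel)
  simp only [Fm.sem, wv_cons, wv_nil, one_mul, upd_apply, Nat.reduceEqDiff, ↓reduceIte, gNS_1, gNS_2, gNS_3, gNS_4, gNS_5, gNS_6, gNS_7, gNS_8, gNS_9, KCM_s0, KCM_s1, KCM_s2, KCM_s3, KCM_s4, KCM_s5, KCM_s6, exists_eq_right'] at this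
  exact this

theorem f_c1x (he : Emb NS.m (gNS a1 b1 a2 b2 a3 b3 x c d)) :
    ∀ g ∈ gen [c, a2, b2, a3, b3, a1 * b1], g * a2 * b2 * a3 * b3 = a2 * b2 * a3 * b3 * g → g ∈ gen [a1
    * b1, a2 * b2, a3 * b3, a1 * a2 * b2 * a2 * a3 * b3 * a3 * x * b2 * a2 * b3 * a3 * x * b2 * b3 *
    x] := by
  have := M12S.holdsB KCM_ok KCM_subs KCM_base (show Emb KCM.m _ from he) (p := (.all 3 40 (.imp (.eq [6,5,4,3,40] [40,6,5,4,3]) (.ex 5 41 (.eq [40] [41]))))) (by decide +kernel)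
  simp only [Fm.sem, wv_cons, wv_nil, one_mul, upd_apply, Nat.reduceEqDiff, ↓reduceIte, gNS_1, gNS_2, gNS_3, gNS_4, gNS_5, gNS_6, gNS_7, gNS_8, gNS_9, KCM_s0, KCM_s1, KCM_s2, KCM_s3, KCM_s4, KCM_s5, KCM_s6, exists_eq_right'] at this
  exact this

theorem f_pm (he : Emb NS.m (gNS a1 b1 a2 b2 a3 b3 x c d)) :
    ∀ u ∈ gen [a1 * b1, a2 * b2, a3 * b3], u = 1 ∨ (u = a1 * b1 ∨ u = b1 * a1 ∨ u = a2 * b2 ∨ u = b2 *
    a2 ∨ u = a3 * b3 ∨ u = b3 * a3) ∨ (∃ w ∈ gen [a1, a2, a3, a1 * b1 * a3 * x * b2 * a2 * b3 * x *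
    b1 * a1 * b2 * x * b1 * b3 * x * b2], w * u = a2 * b2 * a3 * b3 * w ∨ w * u = a1 * b1 * a2 * b2
    * a3 * b3 * w) := by
  have := M12S.holdsB KCM_ok KCM_subs KCM_base (show Emb KCM.m _ from he) (p := (.all 0 40 (.or (.eq [40] []) (.or (.or (.eq [40] [2,1]) (.or (.eq [40] [1,2]) (.or (.eq [40] [4,3])
      (.or (.eq [40] [3,4]) (.or (.eq [40] [6,5]) (.eq [40] [5,6])))))) (.ex 6 41 (.or (.eq [40,41]
      [41,6,5,4,3]) (.eq [40,41] [41,6,5,4,3,2,1]))))))) (by decide +kernel)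
  simp only [Fm.sem, wv_cons, wv_nil, one_mul, upd_apply, Nat.reduceEqDiff, ↓reduceIte, gNS_1, gNS_2, gNS_3, gNS_4, gNS_5, gNS_6, gNS_7, gNS_8, gNS_9, KCM_s0, KCM_s1, KCM_s2, KCM_s3, KCM_s4, KCM_s5, KCM_s6, exists_eq_right'] at this
  exact this

theorem f_c108 (he : Emb NS.m (gNS a1 b1 a2 b2 a3 b3 x c d)) :
    Nat.card ↥(gen [a1, b1, a2, b2, a3, b3, x, c, d] ⊓ centralizer {a2 * b2 * a3 * b3}) = 108 ∧
      (¬ ∃ k ∈ gen [a1, b1, a2, b2, a3, b3, x, c, d], k * (a1 * b1) = (a2 * b2 * a3 * b3) * k) := by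
  have := PM.cent_of_emb NS_ok he (W := NS.W 0) (cert := [⟨1, [1539, 1733, 7, 1608, 1282, 325, 966, 1092, 774, 456, 1416, 1025, 645, 198, 836, 583, 257, 129, 897, 1217,
    384, 518, 705, 1152, 1672, 1344, 1472], [[3, 6, 1, 8, 0, 1, 6, 2, 3, 1], [3, 2, 6, 3, 8, 7, 3, 5, 7, 4, 5,
    2, 3]]⟩,
     ⟨9, [1088, 1601, 1, 192, 321, 384, 769, 449, 1344, 513, 1729, 897, 640, 1537, 128, 705, 1664, 833, 1025, 1153,
    257, 1472, 1217, 1408, 960, 1281], [[0, 1, 0, 1, 1, 0, 1, 1, 1, 0, 1, 1, 1, 0, 1], [0, 1, 0, 1, 0, 1, 1,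
    1, 1, 0, 1, 0]]⟩,
     ⟨5, [0, 1665, 1473, 1280, 1089, 448, 192, 704, 896], [[1, 0, 0, 0, 1, 0, 0, 0, 1], [1, 0, 0, 1]]⟩,
     ⟨2, [1152, 1345, 1728, 1536, 960, 257, 768], [[0, 0, 1, 1, 0, 0, 0], [0, 0, 0, 1, 0]]⟩,
     ⟨14, [1664, 1281, 192], [[0, 1], [1, 0]]⟩,
     ⟨16, [513, 1408], [[0]]⟩,
     ⟨3, [1664], []⟩])
    (es := [1, 2]) (x := [6,5,4,3]) (N := 1451520) (c := 108) (ncs := [[2,1]])
    ((PM.card_sub NS_ok NS_subs 0).trans (by decide +kernel)) (by decide +kernel)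
  simpa only [wv_cons, wv_nil, one_mul, List.forall_mem_cons, List.not_mem_nil, IsEmpty.forall_iff, implies_true, and_true, gNS_1, gNS_2, gNS_3, gNS_4, gNS_5, gNS_6, gNS_7, gNS_8, gNS_9, gNS_s0, exists_eq_right'] using this

theorem f_c648 (he : Emb NS.m (gNS a1 b1 a2 b2 a3 b3 x c d)) :
    Nat.card ↥(gen [a1, b1, a2, b2, a3, b3, x, c, d] ⊓ centralizer {a1 * b1 * a2 * b2 * a3 * b3}) = 648 ∧
      (¬ ∃ k ∈ gen [a1, b1, a2, b2, a3, b3, x, c, d], k * (a1 * b1) = (a1 * b1 * a2 * b2 * a3 * b3) * k) := by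
  have := PM.cent_of_emb NS_ok he (W := NS.W 0) (cert := [⟨1, [1539, 1733, 7, 1608, 1282, 325, 966, 1092, 774, 456, 1416, 1025, 645, 198, 836, 583, 257, 129, 897, 1217,
    384, 518, 705, 1152, 1672, 1344, 1472], [[1, 8, 1, 6, 3, 8, 1, 6, 3], [2, 5, 8, 6, 4, 5]]⟩,
     ⟨9, [1537, 256, 512, 1153, 1600, 897, 1408, 448, 1216, 1, 1088, 1729, 384, 1473, 704, 320, 832, 1345, 192,
    1665, 128, 1281, 768, 1025, 960, 641], [[1, 0, 0, 1, 0, 1, 0, 0, 1, 0, 1, 0, 1, 0, 1, 0, 0, 1, 0, 0, 0, 1,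
    0, 0, 1], [1, 0, 1, 0, 0, 0, 1, 0, 1, 0, 1, 0, 0, 0, 1]]⟩,
     ⟨5, [1088, 1665, 192, 1472, 449, 896, 705, 0, 1280], [[1, 0, 1, 1, 0], [1, 1, 0, 0]]⟩,
     ⟨2, [1728, 769, 1537, 1152, 1345, 960, 256], [[1, 1, 1, 1, 1, 0], [0, 1, 0, 0, 0, 1, 1, 0]]⟩,
     ⟨7, [704, 1088, 1472], [[1], [0, 1, 0, 0]]⟩,
     ⟨6, [], [[0], [1]]⟩,
     ⟨3, [], [[0], [1]]⟩,
     ⟨8, [], [[0], [1]]⟩,
     ⟨4, [], [[0], [1]]⟩,
     ⟨10, [1024, 1409], [[0, 1]]⟩,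
     ⟨24, [1152], []⟩])
    (es := [1, 2]) (x := [6,5,4,3,2,1]) (N := 1451520) (c := 648) (ncs := [[2,1]])
    ((PM.card_sub NS_ok NS_subs 0).trans (by decide +kernel)) (by decide +kernel)
  simpa only [wv_cons, wv_nil, one_mul, List.forall_mem_cons, List.not_mem_nil, IsEmpty.forall_iff, implies_true, and_true, gNS_1, gNS_2, gNS_3, gNS_4, gNS_5, gNS_6, gNS_7, gNS_8, gNS_9, gNS_s0, exists_eq_right'] using this

end Cfsg.Lib.S62.KC
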