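import Cfsg.Agent.S62.K0

/-! Finite checks in the model of `Sp₆(2)`: the centralizer of a `3`-central element. -/

set_option autoImplicit false
set_option maxRecDepth 100000
set_option linter.unusedSimpArgs false
set_option linter.unusedSectionVars false
set_option linter.unusedVariables false
set_option maxHeartbeats 1000000

namespace Cfsg.Lib.S62.KH

open Subgroup Cfsg.Lib.Spor Cfsg.Lib.Spor.Bulk Cfsg.Lib.Spor.PK Cfsg.Lib.Spor.WF Cfsg.Lib.F43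

variable {G : Type*} [Group G] {a1 b1 a2 b2 a3 b3 x c d : G}

/-- more subgroups -/
@[reducible] def KHM : PM := { NS with
  SW := [([[6,5,4,3,2,1],[5,6,4,3],[4,7,6,2,7,4,1,2,7,6,3,4,7,5,2,1]],
    [⟨1, [320, 833, 1410, 576, 1281, 706, 641, 258, 193, 1602, 1729, 1154, 1089, 514, 898, 1666, 1217, 1474, 961,
    1026, 769, 1537, 1346, 130, 450, 385], []⟩]),
   ([[7,6,4,2,7,6,4,1,2,1],[6,4,2,7,6,4,2,7,2,1]],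
    [⟨2, [1728, 1345, 256, 769, 960, 1536, 1153], []⟩])] }

instance : NeZero KHM.n := ⟨by decide⟩

theorem KHM_ok : KHM.ok = true := NS_ok

theorem KHM_subs : KHM.subsOK = true := by decide +kernel

theorem KHM_s0 : sub (gNS a1 b1 a2 b2 a3 b3 x c d) (KHM.W 0) = gen [a1 * b1 * a2 * b2 * a3 * b3, a2 * b2 * b3 * a3, a1 * b1 * a3 * x * b2 * a2 * b3 * x * b1 * a1 * b2 * x * b1 * b3 * x * b2] := by
  change gen (List.map (wv _) [[6,5,4,3,2,1],[5,6,4,3],[4,7,6,2,7,4,1,2,7,6,3,4,7,5,2,1]]) = _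
  simp only [List.map_cons, List.map_nil, wv_cons, wv_nil, one_mul, gNS_1, gNS_2, gNS_3, gNS_4, gNS_5, gNS_6, gNS_7, gNS_8, gNS_9]

theorem KHM_s1 : sub (gNS a1 b1 a2 b2 a3 b3 x c d) (KHM.W 1) = gen [a1 * b1 * a1 * b2 * b3 * x * b1 * b2 * b3 * x, a1 * b1 * x * b1 * b2 * b3 * x * b1 * b2 * b3] := by
  change gen (List.map (wv _) [[7,6,4,2,7,6,4,1,2,1],[6,4,2,7,6,4,2,7,2,1]]) = _
  simp only [List.map_cons, List.map_nil, wv_cons, wv_nil, one_mul, gNS_1, gNS_2, gNS_3, gNS_4, gNS_5, gNS_6, gNS_7, gNS_8, gNS_9]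

theorem KHM_base : M12S.Base KHM [2,3,1,0,4,16,10] := K0.NS_base

theorem KHM_crd_E (he : Emb NS.m (gNS a1 b1 a2 b2 a3 b3 x c d)) : Nat.card (gen [a1 * b1 * a2 * b2 * a3 * b3, a2 * b2 * b3 * a3, a1 * b1 * a3 * x * b2 * a2 * b3 * x * b1 * a1 * b2 * x * b1 * b3 * x * b2] : Subgroup G) = 27 :=
  KHM_s0 (G := G) ▸ (PM.card_of_emb KHM_ok KHM_subs (show Emb KHM.m _ from he) 0).trans (by decide +kernel)

theorem KHM_crd_Q (he : Emb NS.m (gNS a1 b1 a2 b2 a3 b3 x c d)) : Nat.card (gen [a1 * b1 * a1 * b2 * b3 * x * b1 * b2 * b3 * x, a1 * b1 * x * b1 * b2 * b3 * x * b1 * b2 * b3] : Subgroup G) = 8 :=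
  KHM_s1 (G := G) ▸ (PM.card_of_emb KHM_ok KHM_subs (show Emb KHM.m _ from he) 1).trans (by decide +kernel)

theorem f_E (he : Emb NS.m (gNS a1 b1 a2 b2 a3 b3 x c d)) :
    ∀ g ∈ gen [a1 * b1 * a2 * b2 * a3 * b3, a2 * b2 * b3 * a3, a1 * b1 * a3 * x * b2 * a2 * b3 * x * b1
    * a1 * b2 * x * b1 * b3 * x * b2], g * a1 * b1 * a2 * b2 * a3 * b3 = a1 * b1 * a2 * b2 * a3 * b3
    * g ∧ g * g * g = 1 ∧ (a1 * a2 * b2 * a2 * a3 * b3 * a3 * x * b2 * a2 * b3 * a3 * x * b2 * b3 *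
    x * g * a1 * a2 * b2 * a2 * a3 * b3 * a3 * x * b2 * a2 * b3 * a3 * x * b2 * b3 * x * g = 1 ∨ a1
    * a2 * b2 * a2 * a3 * b3 * a3 * x * b2 * a2 * b3 * a3 * x * b2 * b3 * x * g * a1 * a2 * b2 * a2
    * a3 * b3 * a3 * x * b2 * a2 * b3 * a3 * x * b2 * b3 * x * g = a1 * b1 * a2 * b2 * a3 * b3 ∨ a1
    * a2 * b2 * a2 * a3 * b3 * a3 * x * b2 * a2 * b3 * a3 * x * b2 * b3 * x * g * a1 * a2 * b2 * a2
    * a3 * b3 * a3 * x * b2 * a2 * b3 * a3 * x * b2 * b3 * x * g = a1 * b1 * a2 * b2 * a3 * b3 * a1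
    * b1 * a2 * b2 * a3 * b3) ∧ a2 * b2 * a3 * b3 * g * b3 * a3 * b2 * a2 ∈ gen [a1 * b1 * a2 * b2 *
    a3 * b3, a2 * b2 * b3 * a3, a1 * b1 * a3 * x * b2 * a2 * b3 * x * b1 * a1 * b2 * x * b1 * b3 * x
    * b2] ∧ a1 * b1 * a1 * b2 * b3 * x * b1 * b2 * b3 * x * g * x * b3 * b2 * b1 * x * b3 * b2 * a1
    * b1 * a1 ∈ gen [a1 * b1 * a2 * b2 * a3 * b3, a2 * b2 * b3 * a3, a1 * b1 * a3 * x * b2 * a2 * b3
    * x * b1 * a1 * b2 * x * b1 * b3 * x * b2] ∧ a1 * b1 * x * b1 * b2 * b3 * x * b1 * b2 * b3 * g *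
    b3 * b2 * b1 * x * b3 * b2 * b1 * x * b1 * a1 ∈ gen [a1 * b1 * a2 * b2 * a3 * b3, a2 * b2 * b3 *
    a3, a1 * b1 * a3 * x * b2 * a2 * b3 * x * b1 * a1 * b2 * x * b1 * b3 * x * b2] := by
  have := M12S.holdsB KHM_ok KHM_subs KHM_base (show Emb KHM.m _ from he) (p := (.all 0 40 (.and (.eq [6,5,4,3,2,1,40] [40,6,5,4,3,2,1]) (.and (.eq [40,40,40] []) (.and (.or (.eq
      [40,7,6,4,7,5,6,3,4,7,5,6,5,3,4,3,1,40,7,6,4,7,5,6,3,4,7,5,6,5,3,4,3,1] []) (.or (.eq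
      [40,7,6,4,7,5,6,3,4,7,5,6,5,3,4,3,1,40,7,6,4,7,5,6,3,4,7,5,6,5,3,4,3,1] [6,5,4,3,2,1]) (.eq
      [40,7,6,4,7,5,6,3,4,7,5,6,5,3,4,3,1,40,7,6,4,7,5,6,3,4,7,5,6,5,3,4,3,1]
      [6,5,4,3,2,1,6,5,4,3,2,1]))) (.and (.ex 0 41 (.eq [3,4,5,6,40,6,5,4,3] [41])) (.and (.ex 0 41
      (.eq [1,2,1,4,6,7,2,4,6,7,40,7,6,4,2,7,6,4,1,2,1] [41])) (.ex 0 41 (.eq
      [1,2,7,2,4,6,7,2,4,6,40,6,4,2,7,6,4,2,7,2,1] [41]))))))))) (by decide +kernel)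
  simp only [Fm.sem, wv_cons, wv_nil, one_mul, upd_apply, Nat.reduceEqDiff, ↓reduceIte, gNS_1, gNS_2, gNS_3, gNS_4, gNS_5, gNS_6, gNS_7, gNS_8, gNS_9, KHM_s0, KHM_s1, exists_eq_right'] at this
  exact this

theorem f_Q (he : Emb NS.m (gNS a1 b1 a2 b2 a3 b3 x c d)) :
    ∀ g ∈ gen [a1 * b1 * a1 * b2 * b3 * x * b1 * b2 * b3 * x, a1 * b1 * x * b1 * b2 * b3 * x * b1 * b2 *
    b3], g * a1 * b1 * a2 * b2 * a3 * b3 = a1 * b1 * a2 * b2 * a3 * b3 * g ∧ (g = 1 ∨ g = a1 * a2 *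
    b2 * a2 * a3 * b3 * a3 * x * b2 * a2 * b3 * a3 * x * b2 * b3 * x ∨ g * g = a1 * a2 * b2 * a2 *
    a3 * b3 * a3 * x * b2 * a2 * b3 * a3 * x * b2 * b3 * x) ∧ (g * a2 * b2 * a3 * b3 = a2 * b2 * a3
    * b3 * g → (g = 1 ∨ g = a1 * a2 * b2 * a2 * a3 * b3 * a3 * x * b2 * a2 * b3 * a3 * x * b2 * b3 *
    x)) ∧ a2 * b2 * a3 * b3 * g * b3 * a3 * b2 * a2 ∈ gen [a1 * b1 * a1 * b2 * b3 * x * b1 * b2 * b3
    * x, a1 * b1 * x * b1 * b2 * b3 * x * b1 * b2 * b3] := by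
  have := M12S.holdsB KHM_ok KHM_subs KHM_base (show Emb KHM.m _ from he) (p := (.all 1 40 (.and (.eq [6,5,4,3,2,1,40] [40,6,5,4,3,2,1]) (.and (.or (.eq [40] []) (.or (.eq [40]
      [7,6,4,7,5,6,3,4,7,5,6,5,3,4,3,1]) (.eq [40,40] [7,6,4,7,5,6,3,4,7,5,6,5,3,4,3,1]))) (.and
      (.imp (.eq [6,5,4,3,40] [40,6,5,4,3]) (.or (.eq [40] []) (.eq [40]
      [7,6,4,7,5,6,3,4,7,5,6,5,3,4,3,1]))) (.ex 1 41 (.eq [3,4,5,6,40,6,5,4,3] [41]))))))) (by decide +kernel)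
  simp only [Fm.sem, wv_cons, wv_nil, one_mul, upd_apply, Nat.reduceEqDiff, ↓reduceIte, gNS_1, gNS_2, gNS_3, gNS_4, gNS_5, gNS_6, gNS_7, gNS_8, gNS_9, KHM_s0, KHM_s1, exists_eq_right'] at this
  exact this

theorem f_m (he : Emb NS.m (gNS a1 b1 a2 b2 a3 b3 x c d)) :
    a1 * a2 * b2 * a2 * a3 * b3 * a3 * x * b2 * a2 * b3 * a3 * x * b2 * b3 * x ∈ gen [a1 * b1 * a1 * b2
    * b3 * x * b1 * b2 * b3 * x, a1 * b1 * x * b1 * b2 * b3 * x * b1 * b2 * b3] ∧ ¬ a1 * a2 * b2 *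
    a2 * a3 * b3 * a3 * x * b2 * a2 * b3 * a3 * x * b2 * b3 * x = 1 ∧ ¬ a1 * b1 * a2 * b2 * a3 * b3
    = 1 ∧ ¬ a1 * b1 * a3 * x * b2 * a2 * b3 * x * b1 * a1 * b2 * x * b1 * b3 * x * b2 * a2 * b2 * b3
    * a3 = a2 * b2 * b3 * a3 * a1 * b1 * a3 * x * b2 * a2 * b3 * x * b1 * a1 * b2 * x * b1 * b3 * x
    * b2 ∧ a1 * b1 * a1 * b2 * b3 * x * b1 * b2 * b3 * x * x * b3 * b2 * b1 * x * b3 * b2 * a1 * b1
    * a1 = 1 ∧ a1 * b1 * x * b1 * b2 * b3 * x * b1 * b2 * b3 * b3 * b2 * b1 * x * b3 * b2 * b1 * x *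
    b1 * a1 = 1 := by
  have := M12S.holdsB KHM_ok KHM_subs KHM_base (show Emb KHM.m _ from he) (p := (.and (.ex 1 40 (.eq [7,6,4,7,5,6,3,4,7,5,6,5,3,4,3,1] [40])) (.and (.not (.eq
      [7,6,4,7,5,6,3,4,7,5,6,5,3,4,3,1] [])) (.and (.not (.eq [6,5,4,3,2,1] [])) (.and (.not (.eq
      [5,6,4,3,4,7,6,2,7,4,1,2,7,6,3,4,7,5,2,1] [4,7,6,2,7,4,1,2,7,6,3,4,7,5,2,1,5,6,4,3])) (.and
      (.eq [1,2,1,4,6,7,2,4,6,7,7,6,4,2,7,6,4,1,2,1] []) (.eq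
      [1,2,7,2,4,6,7,2,4,6,6,4,2,7,6,4,2,7,2,1] []))))))) (by decide +kernel)
  simp only [Fm.sem, wv_cons, wv_nil, one_mul, upd_apply, Nat.reduceEqDiff, ↓reduceIte, gNS_1, gNS_2, gNS_3, gNS_4, gNS_5, gNS_6, gNS_7, gNS_8, gNS_9, KHM_s0, KHM_s1, exists_eq_right'] at this
  exact this

theorem f_d (he : Emb NS.m (gNS a1 b1 a2 b2 a3 b3 x c d)) :
    (∃ u ∈ gen [a1 * b1 * a2 * b2 * a3 * b3, a2 * b2 * b3 * a3, a1 * b1 * a3 * x * b2 * a2 * b3 * x * b1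
    * a1 * b2 * x * b1 * b3 * x * b2], ∃ q ∈ gen [a1 * b1 * a1 * b2 * b3 * x * b1 * b2 * b3 * x, a1
    * b1 * x * b1 * b2 * b3 * x * b1 * b2 * b3], a1 * b1 = u * q ∨ a1 * b1 = u * q * a2 * b2 * a3 *
    b3 ∨ a1 * b1 = u * q * a2 * b2 * a3 * b3 * a2 * b2 * a3 * b3) ∧ (∃ u ∈ gen [a1 * b1 * a2 * b2 *
    a3 * b3, a2 * b2 * b3 * a3, a1 * b1 * a3 * x * b2 * a2 * b3 * x * b1 * a1 * b2 * x * b1 * b3 * x
    * b2], ∃ q ∈ gen [a1 * b1 * a1 * b2 * b3 * x * b1 * b2 * b3 * x, a1 * b1 * x * b1 * b2 * b3 * x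
    * b1 * b2 * b3], a2 * b2 = u * q ∨ a2 * b2 = u * q * a2 * b2 * a3 * b3 ∨ a2 * b2 = u * q * a2 *
    b2 * a3 * b3 * a2 * b2 * a3 * b3) ∧ (∃ u ∈ gen [a1 * b1 * a2 * b2 * a3 * b3, a2 * b2 * b3 * a3,
    a1 * b1 * a3 * x * b2 * a2 * b3 * x * b1 * a1 * b2 * x * b1 * b3 * x * b2], ∃ q ∈ gen [a1 * b1 *
    a1 * b2 * b3 * x * b1 * b2 * b3 * x, a1 * b1 * x * b1 * b2 * b3 * x * b1 * b2 * b3], a3 * b3 = u
    * q ∨ a3 * b3 = u * q * a2 * b2 * a3 * b3 ∨ a3 * b3 = u * q * a2 * b2 * a3 * b3 * a2 * b2 * a3 *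
    b3) ∧ (∃ u ∈ gen [a1 * b1 * a2 * b2 * a3 * b3, a2 * b2 * b3 * a3, a1 * b1 * a3 * x * b2 * a2 *
    b3 * x * b1 * a1 * b2 * x * b1 * b3 * x * b2], ∃ q ∈ gen [a1 * b1 * a1 * b2 * b3 * x * b1 * b2 *
    b3 * x, a1 * b1 * x * b1 * b2 * b3 * x * b1 * b2 * b3], a1 * a2 * a3 * x * b1 * b2 * b3 * x = u
    * q ∨ a1 * a2 * a3 * x * b1 * b2 * b3 * x = u * q * a2 * b2 * a3 * b3 ∨ a1 * a2 * a3 * x * b1 *
    b2 * b3 * x = u * q * a2 * b2 * a3 * b3 * a2 * b2 * a3 * b3) := by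
  have := M12S.holdsB KHM_ok KHM_subs KHM_base (show Emb KHM.m _ from he) (p := (.and (.ex 0 40 (.ex 1 41 (.or (.eq [2,1] [41,40]) (.or (.eq [2,1] [6,5,4,3,41,40]) (.eq [2,1]
      [6,5,4,3,6,5,4,3,41,40]))))) (.and (.ex 0 40 (.ex 1 41 (.or (.eq [4,3] [41,40]) (.or (.eq
      [4,3] [6,5,4,3,41,40]) (.eq [4,3] [6,5,4,3,6,5,4,3,41,40]))))) (.and (.ex 0 40 (.ex 1 41 (.or
      (.eq [6,5] [41,40]) (.or (.eq [6,5] [6,5,4,3,41,40]) (.eq [6,5] [6,5,4,3,6,5,4,3,41,40])))))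
      (.ex 0 40 (.ex 1 41 (.or (.eq [7,6,4,2,7,5,3,1] [41,40]) (.or (.eq [7,6,4,2,7,5,3,1]
      [6,5,4,3,41,40]) (.eq [7,6,4,2,7,5,3,1] [6,5,4,3,6,5,4,3,41,40]))))))))) (by decide +kernel)
  simp only [Fm.sem, wv_cons, wv_nil, one_mul, upd_apply, Nat.reduceEqDiff, ↓reduceIte, gNS_1, gNS_2, gNS_3, gNS_4, gNS_5, gNS_6, gNS_7, gNS_8, gNS_9, KHM_s0, KHM_s1, exists_eq_right'] at this
  exact this

end Cfsg.Lib.S62.KH
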