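import Cfsg.Agent.S62.Defs2
import Cfsg.Agent.F43.Base

/-! Finite checks for the classification of the linear groups. -/

set_option autoImplicit false

namespace Cfsg.Lib.S62.CL1

open Cfsg Subgroup Cfsg.Lib.Recog.P43 Cfsg.Lib.U6 Cfsg.Lib.Spor.PK Cfsg.Lib.F43

/-- Four codes. -/
abbrev N4 : Type := ℕ × ℕ × ℕ × ℕ
/-- Decoding. -/
def vc (n : ℕ) : V4 := ![(n : F3), (n / 3 : ℕ), (n / 9 : ℕ), (n / 27 : ℕ)]
/-- Coding. -/
def cd (v : V4) : ℕ := (v 0).val + 3 * (v 1).val + 9 * (v 2).val + 27 * (v 3).val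
/-- Coding up to sign. -/
def nm (v : V4) : ℕ := min (cd v) (cd (-v))
/-- Matrices. -/
def mt (t : N4) : Fin 4 → V4 := ![vc t.1, vc t.2.1, vc t.2.2.1, vc t.2.2.2]
/-- Tables. -/
def tab (t n : ℕ) : ℕ := t >>> (7 * n) % 128
/-- Normalized codes. -/
def NL : List ℕ :=
  [1, 3, 4, 5, 9, 10, 11, 12, 13, 14, 15, 16, 17, 27, 28, 29, 30, 31, 32, 33, 34, 35, 36, 37, 38,
   39, 40, 41, 42, 43, 44, 45, 46, 47, 48, 49, 50, 51, 52, 53]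
/-- The signed permutations. -/
def WL : List N4 :=
  [(1, 6, 18, 54), (1, 3, 18, 54), (1, 18, 6, 54), (1, 6, 54, 18), (1, 9, 6, 54), (1, 3, 54, 18),
   (1, 18, 3, 54), (1, 54, 6, 18), (1, 18, 54, 6), (1, 9, 3, 54), (1, 27, 6, 18), (1, 9, 54, 6),
   (1, 6, 9, 54), (1, 54, 3, 18), (1, 54, 18, 6), (1, 18, 54, 3), (1, 3, 9, 54), (1, 27, 3, 18),
   (1, 27, 18, 6), (1, 9, 54, 3), (1, 6, 27, 18), (1, 54, 9, 6), (1, 54, 18, 3), (1, 6, 54, 9),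
   (1, 3, 27, 18), (1, 27, 9, 6), (1, 27, 18, 3), (1, 3, 54, 9), (1, 18, 27, 6), (1, 54, 9, 3),
   (1, 54, 6, 9), (1, 6, 18, 27), (1, 9, 27, 6), (1, 27, 9, 3), (1, 27, 6, 9), (1, 3, 18, 27), (1,
   18, 27, 3), (1, 54, 3, 9), (1, 18, 6, 27), (1, 9, 27, 3), (1, 27, 3, 9), (1, 9, 6, 27), (1, 6,
   27, 9), (1, 18, 3, 27), (1, 3, 27, 9), (1, 9, 3, 27), (1, 6, 9, 27), (1, 3, 9, 27)]
/-- A generator. -/
def g0 : N4 × ℕ :=
  ((1, 6, 9, 27), 163587430878442151377081648056738306819167202593872304184479874353879458917034966756766742839010541787592045039161821255685258824032250870080883019796066635873995976622208)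
/-- A generator. -/
def g1 : N4 × ℕ :=
  ((1, 9, 3, 27), 152176416650091883160416662575418902132067135435302498187156496994015500867189121492796786930910587863479557335721336500820965886270997788381776016979534403557826664349824)
/-- A generator. -/
def g2 : N4 × ℕ :=
  ((1, 3, 27, 9), 152176405767690311173719795256437525574263549572879512374550193701728340224054147110651362706799198376653564692192517153995433122914754538905891399586517963651358021140608)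
/-- A generator. -/
def g3 : N4 × ℕ :=
  ((1, 3, 18, 27), 186409513747173898863726509111233519098062919185498490653895881730858094323563847551355496903953009304357382950744321932663385760155106832437949491064871625668738076917888)
/-- A generator. -/
def g4 : N4 × ℕ :=
  ((1, 3, 9, 54), 201565018986810625734699285649856429623130548460260303963140616862549105487415812799454930212208227596584912810396582555411856346332857290122445976162475661057444047503488)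
/-- Representatives and generators of their stabilizers. -/
def RP : List (ℕ × ℕ × List (N4 × ℕ)) :=
  [(1, 1, [g0, g1, g2]), (2, 1, [g0, g1, g2]), (3, 3, [g3, g2]), (4, 4, [g3, g2]), (5, 5, [g3,
   g2]), (12, 12, [g1, g4]), (13, 13, [g1, g4]), (14, 14, [g1, g4]), (39, 39, [g1, g2]), (40, 40,
   [g1, g2]), (41, 41, [g1, g2])]
/-- Certificates. -/
def DT : List (N4 × ℕ × N4 × N4 × List (ℕ × ℕ)) :=
  [((1, 3, 9, 27), 0, (1, 3, 9, 27), (1, 3, 9, 27), []), ((2, 3, 9, 27), 0, (1, 3, 9, 27), (1, 3,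
   9, 27), []), ((3, 1, 4, 5), 17, (1, 3, 9, 27), (1, 3, 9, 27), []), ((3, 1, 9, 27), 0, (1, 3, 9,
   27), (1, 3, 9, 27), []), ((3, 1, 36, 45), 0, (1, 3, 9, 27), (1, 3, 9, 27), []), ((3, 4, 9, 27),
   0, (1, 3, 9, 27), (1, 3, 9, 27), [(1, 3), (5, 1), (8, 5), (5, 8), (1, 5)]), ((3, 4, 36, 45), 0,
   (1, 3, 9, 27), (1, 3, 9, 27), [(1, 3), (5, 1), (8, 5), (5, 8), (1, 5)]), ((3, 5, 9, 27), 0, (1,
   3, 9, 27), (1, 3, 9, 27), [(1, 3), (3, 5), (6, 8), (7, 4), (1, 8)]), ((3, 5, 36, 45), 0, (1, 3,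
   9, 27), (1, 3, 9, 27), [(1, 3), (3, 5), (6, 8), (7, 4), (1, 8)]), ((4, 1, 3, 5), 14, (1, 3, 9,
   27), (1, 3, 9, 27), []), ((4, 1, 9, 27), 0, (1, 3, 9, 27), (1, 3, 9, 27), [(1, 3), (4, 1), (7,
   1), (3, 4), (1, 5)]), ((4, 1, 36, 45), 0, (1, 3, 9, 27), (1, 3, 9, 27), [(1, 3), (4, 1), (7,
   1), (3, 4), (1, 5)]), ((4, 3, 9, 27), 0, (1, 3, 9, 27), (1, 3, 9, 27), []), ((4, 3, 36, 45), 0,
   (1, 3, 9, 27), (1, 3, 9, 27), [(1, 9), (4, 36), (7, 54), (1, 63)]), ((4, 5, 9, 27), 0, (1, 3,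
   9, 27), (1, 3, 9, 27), [(1, 3), (4, 5), (6, 1), (18, 1), (18, 4), (6, 10), (4, 14), (1, 12)]),
   ((4, 5, 36, 45), 0, (1, 3, 9, 27), (1, 3, 9, 27), []), ((5, 1, 3, 4), 17, (1, 3, 9, 27), (1, 3,
   9, 27), []), ((5, 1, 9, 27), 0, (1, 3, 9, 27), (1, 3, 9, 27), [(1, 3), (5, 1), (8, 5), (5, 8),
   (1, 5)]), ((5, 1, 36, 45), 0, (1, 3, 9, 27), (1, 3, 9, 27), [(1, 3), (5, 1), (8, 5), (5, 8),
   (1, 5)]), ((5, 3, 9, 27), 0, (1, 3, 9, 27), (1, 3, 9, 27), []), ((5, 3, 36, 45), 0, (1, 3, 9,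
   27), (1, 3, 9, 27), [(1, 3), (5, 3), (11, 9), (43, 36), (52, 33), (11, 51), (5, 51), (1, 15)]),
   ((5, 4, 9, 27), 0, (1, 3, 9, 27), (1, 3, 9, 27), [(1, 3), (5, 4), (11, 10), (16, 14), (25, 17),
   (19, 12), (7, 12), (1, 13)]), ((5, 4, 36, 45), 0, (1, 3, 9, 27), (1, 3, 9, 27), []), ((12, 1,
   3, 9), 38, (1, 3, 9, 27), (1, 3, 9, 27), []), ((12, 1, 4, 10), 41, (1, 3, 9, 27), (1, 3, 9,
   27), []), ((12, 1, 5, 11), 44, (1, 3, 9, 27), (1, 3, 9, 27), []), ((12, 1, 13, 14), 17, (1, 3,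
   9, 27), (1, 3, 9, 27), []), ((12, 1, 13, 15), 17, (1, 3, 9, 27), (1, 3, 9, 27), []), ((12, 1,
   13, 27), 17, (1, 3, 9, 27), (1, 3, 9, 27), []), ((12, 1, 14, 15), 14, (1, 3, 9, 27), (1, 3, 9,
   27), []), ((12, 1, 14, 27), 14, (1, 3, 9, 27), (1, 3, 9, 27), []), ((12, 1, 15, 27), 0, (1, 3,
   9, 27), (1, 3, 9, 27), [(1, 3), (3, 11), (3, 29), (1, 51)]), ((12, 1, 16, 17), 51, (1, 3, 9,
   27), (1, 3, 9, 27), []), ((12, 1, 28, 29), 51, (1, 3, 9, 27), (1, 3, 9, 27), []), ((12, 1, 39,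
   51), 47, (1, 3, 9, 27), (1, 3, 9, 27), []), ((12, 1, 40, 53), 53, (1, 3, 9, 27), (1, 3, 9, 27),
   []), ((12, 1, 41, 52), 50, (1, 3, 9, 27), (1, 3, 9, 27), []), ((12, 1, 42, 48), 0, (1, 3, 9,
   27), (1, 3, 9, 27), [(1, 3), (3, 47), (3, 38), (1, 78)]), ((12, 3, 9, 13), 14, (1, 3, 9, 27),
   (1, 3, 9, 27), []), ((12, 3, 9, 14), 14, (1, 3, 9, 27), (1, 3, 9, 27), []), ((12, 3, 9, 15),
   14, (1, 3, 9, 27), (1, 3, 9, 27), []), ((12, 3, 9, 27), 14, (1, 3, 9, 27), (1, 3, 9, 27), []),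
   ((12, 4, 10, 13), 40, (1, 3, 9, 27), (1, 3, 9, 27), []), ((12, 4, 10, 14), 51, (1, 3, 9, 27),
   (1, 3, 9, 27), []), ((12, 4, 10, 15), 48, (1, 3, 9, 27), (1, 3, 9, 27), []), ((12, 4, 10, 27),
   0, (1, 3, 9, 27), (1, 3, 9, 27), [(1, 3), (12, 4), (24, 19), (25, 5), (1, 19)]), ((12, 5, 11,
   13), 51, (1, 3, 9, 27), (1, 3, 9, 27), []), ((12, 5, 11, 14), 40, (1, 3, 9, 27), (1, 3, 9, 27),
   []), ((12, 5, 11, 15), 48, (1, 3, 9, 27), (1, 3, 9, 27), []), ((12, 5, 11, 27), 0, (1, 3, 9,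
   27), (1, 3, 9, 27), [(1, 3), (14, 17), (26, 4), (14, 19), (1, 4)]), ((12, 13, 14, 15), 13, (1,
   3, 9, 27), (1, 3, 9, 27), []), ((12, 13, 14, 27), 13, (1, 3, 9, 27), (1, 3, 9, 27), []), ((12,
   13, 15, 27), 0, (1, 3, 9, 27), (1, 3, 9, 27), [(1, 3), (5, 11), (5, 29), (1, 51)]), ((12, 13,
   16, 17), 52, (1, 3, 9, 27), (1, 3, 9, 27), []), ((12, 13, 28, 29), 52, (1, 3, 9, 27), (1, 3, 9,
   27), []), ((12, 13, 39, 51), 47, (1, 3, 9, 27), (1, 3, 9, 27), []), ((12, 13, 40, 53), 51, (1,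
   3, 9, 27), (1, 3, 9, 27), []), ((12, 13, 41, 52), 49, (1, 3, 9, 27), (1, 3, 9, 27), []), ((12,
   13, 42, 48), 0, (1, 3, 9, 27), (1, 3, 9, 27), [(1, 3), (5, 47), (5, 38), (1, 78)]), ((12, 14,
   15, 27), 0, (1, 3, 9, 27), (1, 3, 9, 27), [(1, 3), (7, 11), (7, 29), (1, 51)]), ((12, 14, 16,
   17), 50, (1, 3, 9, 27), (1, 3, 9, 27), []), ((12, 14, 28, 29), 50, (1, 3, 9, 27), (1, 3, 9,
   27), []), ((12, 14, 39, 51), 47, (1, 3, 9, 27), (1, 3, 9, 27), []), ((12, 14, 40, 53), 49, (1,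
   3, 9, 27), (1, 3, 9, 27), []), ((12, 14, 41, 52), 51, (1, 3, 9, 27), (1, 3, 9, 27), []), ((12,
   14, 42, 48), 0, (1, 3, 9, 27), (1, 3, 9, 27), [(1, 3), (7, 47), (7, 38), (1, 78)]), ((12, 15,
   16, 17), 39, (1, 3, 9, 27), (1, 3, 9, 27), []), ((12, 15, 28, 29), 0, (1, 3, 9, 27), (1, 3, 9,
   27), []), ((12, 15, 39, 51), 47, (1, 3, 9, 27), (1, 3, 9, 27), []), ((12, 15, 40, 53), 0, (1,
   3, 9, 27), (1, 3, 9, 27), [(1, 3), (47, 5), (32, 66), (47, 75), (1, 42)]), ((12, 15, 41, 52),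
   0, (1, 3, 9, 27), (1, 3, 9, 27), [(1, 3), (12, 15), (24, 15), (64, 35), (1, 34)]), ((12, 15,
   42, 48), 51, (1, 3, 9, 27), (1, 3, 9, 27), []), ((12, 16, 17, 27), 0, (1, 3, 9, 27), (1, 3, 9,
   27), []), ((12, 27, 28, 29), 39, (1, 3, 9, 27), (1, 3, 9, 27), []), ((12, 27, 39, 51), 17, (1,
   3, 9, 27), (1, 3, 9, 27), []), ((12, 27, 40, 53), 39, (1, 3, 9, 27), (1, 3, 9, 27), []), ((12,
   27, 41, 52), 39, (1, 3, 9, 27), (1, 3, 9, 27), []), ((12, 27, 42, 48), 39, (1, 3, 9, 27), (1,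
   3, 9, 27), []), ((13, 1, 3, 9), 41, (1, 3, 9, 27), (1, 3, 9, 27), []), ((13, 1, 4, 10), 44, (1,
   3, 9, 27), (1, 3, 9, 27), []), ((13, 1, 5, 11), 38, (1, 3, 9, 27), (1, 3, 9, 27), []), ((13, 1,
   12, 14), 14, (1, 3, 9, 27), (1, 3, 9, 27), []), ((13, 1, 12, 15), 14, (1, 3, 9, 27), (1, 3, 9,
   27), []), ((13, 1, 12, 27), 14, (1, 3, 9, 27), (1, 3, 9, 27), []), ((13, 1, 14, 15), 17, (1, 3,
   9, 27), (1, 3, 9, 27), []), ((13, 1, 14, 27), 17, (1, 3, 9, 27), (1, 3, 9, 27), []), ((13, 1,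
   15, 27), 0, (1, 3, 9, 27), (1, 3, 9, 27), [(1, 3), (3, 14), (3, 32), (1, 51)]), ((13, 1, 16,
   17), 51, (1, 3, 9, 27), (1, 3, 9, 27), []), ((13, 1, 28, 29), 51, (1, 3, 9, 27), (1, 3, 9, 27),
   []), ((13, 1, 39, 51), 50, (1, 3, 9, 27), (1, 3, 9, 27), []), ((13, 1, 40, 53), 47, (1, 3, 9,
   27), (1, 3, 9, 27), []), ((13, 1, 41, 52), 53, (1, 3, 9, 27), (1, 3, 9, 27), []), ((13, 1, 42,
   48), 0, (1, 3, 9, 27), (1, 3, 9, 27), [(1, 3), (3, 50), (3, 41), (1, 78)]), ((13, 3, 9, 12),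
   51, (1, 3, 9, 27), (1, 3, 9, 27), []), ((13, 3, 9, 14), 40, (1, 3, 9, 27), (1, 3, 9, 27), []),
   ((13, 3, 9, 15), 48, (1, 3, 9, 27), (1, 3, 9, 27), []), ((13, 3, 9, 27), 0, (1, 3, 9, 27), (1,
   3, 9, 27), []), ((13, 4, 10, 12), 40, (1, 3, 9, 27), (1, 3, 9, 27), []), ((13, 4, 10, 14), 51,
   (1, 3, 9, 27), (1, 3, 9, 27), []), ((13, 4, 10, 15), 48, (1, 3, 9, 27), (1, 3, 9, 27), []),
   ((13, 4, 10, 27), 0, (1, 3, 9, 27), (1, 3, 9, 27), [(1, 3), (13, 4), (24, 17), (60, 35), (62,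
   49), (14, 79), (1, 56)]), ((13, 5, 11, 12), 14, (1, 3, 9, 27), (1, 3, 9, 27), []), ((13, 5, 11,
   14), 14, (1, 3, 9, 27), (1, 3, 9, 27), []), ((13, 5, 11, 15), 14, (1, 3, 9, 27), (1, 3, 9, 27),
   []), ((13, 5, 11, 27), 14, (1, 3, 9, 27), (1, 3, 9, 27), []), ((13, 12, 14, 15), 13, (1, 3, 9,
   27), (1, 3, 9, 27), []), ((13, 12, 14, 27), 13, (1, 3, 9, 27), (1, 3, 9, 27), []), ((13, 12,
   15, 27), 0, (1, 3, 9, 27), (1, 3, 9, 27), [(1, 3), (7, 15), (7, 33), (1, 51)]), ((13, 12, 16,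
   17), 50, (1, 3, 9, 27), (1, 3, 9, 27), []), ((13, 12, 28, 29), 50, (1, 3, 9, 27), (1, 3, 9,
   27), []), ((13, 12, 39, 51), 51, (1, 3, 9, 27), (1, 3, 9, 27), []), ((13, 12, 40, 53), 47, (1,
   3, 9, 27), (1, 3, 9, 27), []), ((13, 12, 41, 52), 49, (1, 3, 9, 27), (1, 3, 9, 27), []), ((13,
   12, 42, 48), 0, (1, 3, 9, 27), (1, 3, 9, 27), [(1, 3), (7, 51), (7, 42), (1, 78)]), ((13, 14,
   15, 27), 0, (1, 3, 9, 27), (1, 3, 9, 27), [(1, 3), (5, 13), (5, 31), (1, 51)]), ((13, 14, 16,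
   17), 52, (1, 3, 9, 27), (1, 3, 9, 27), []), ((13, 14, 28, 29), 52, (1, 3, 9, 27), (1, 3, 9,
   27), []), ((13, 14, 39, 51), 49, (1, 3, 9, 27), (1, 3, 9, 27), []), ((13, 14, 40, 53), 47, (1,
   3, 9, 27), (1, 3, 9, 27), []), ((13, 14, 41, 52), 51, (1, 3, 9, 27), (1, 3, 9, 27), []), ((13,
   14, 42, 48), 0, (1, 3, 9, 27), (1, 3, 9, 27), [(1, 3), (5, 49), (5, 40), (1, 78)]), ((13, 15,
   16, 17), 39, (1, 3, 9, 27), (1, 3, 9, 27), []), ((13, 15, 28, 29), 0, (1, 3, 9, 27), (1, 3, 9,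
   27), [(1, 9), (13, 28), (31, 10), (45, 41), (1, 59)]), ((13, 15, 39, 51), 0, (1, 3, 9, 27), (1,
   3, 9, 27), [(1, 3), (64, 66), (61, 54), (64, 54), (1, 66)]), ((13, 15, 40, 53), 47, (1, 3, 9,
   27), (1, 3, 9, 27), []), ((13, 15, 41, 52), 0, (1, 3, 9, 27), (1, 3, 9, 27), []), ((13, 15, 42,
   48), 51, (1, 3, 9, 27), (1, 3, 9, 27), []), ((13, 16, 17, 27), 0, (1, 3, 9, 27), (1, 3, 9, 27),
   [(1, 3), (15, 5), (24, 26), (15, 17), (1, 24)]), ((13, 27, 28, 29), 39, (1, 3, 9, 27), (1, 3,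
   9, 27), []), ((13, 27, 39, 51), 39, (1, 3, 9, 27), (1, 3, 9, 27), []), ((13, 27, 40, 53), 17,
   (1, 3, 9, 27), (1, 3, 9, 27), []), ((13, 27, 41, 52), 39, (1, 3, 9, 27), (1, 3, 9, 27), []),
   ((13, 27, 42, 48), 39, (1, 3, 9, 27), (1, 3, 9, 27), []), ((14, 1, 3, 9), 44, (1, 3, 9, 27),
   (1, 3, 9, 27), []), ((14, 1, 4, 10), 38, (1, 3, 9, 27), (1, 3, 9, 27), []), ((14, 1, 5, 11),
   41, (1, 3, 9, 27), (1, 3, 9, 27), []), ((14, 1, 12, 13), 17, (1, 3, 9, 27), (1, 3, 9, 27), []),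
   ((14, 1, 12, 15), 17, (1, 3, 9, 27), (1, 3, 9, 27), []), ((14, 1, 12, 27), 17, (1, 3, 9, 27),
   (1, 3, 9, 27), []), ((14, 1, 13, 15), 14, (1, 3, 9, 27), (1, 3, 9, 27), []), ((14, 1, 13, 27),
   14, (1, 3, 9, 27), (1, 3, 9, 27), []), ((14, 1, 15, 27), 0, (1, 3, 9, 27), (1, 3, 9, 27), [(1,
   3), (3, 17), (3, 35), (1, 51)]), ((14, 1, 16, 17), 51, (1, 3, 9, 27), (1, 3, 9, 27), []), ((14,
   1, 28, 29), 51, (1, 3, 9, 27), (1, 3, 9, 27), []), ((14, 1, 39, 51), 53, (1, 3, 9, 27), (1, 3,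
   9, 27), []), ((14, 1, 40, 53), 50, (1, 3, 9, 27), (1, 3, 9, 27), []), ((14, 1, 41, 52), 47, (1,
   3, 9, 27), (1, 3, 9, 27), []), ((14, 1, 42, 48), 0, (1, 3, 9, 27), (1, 3, 9, 27), [(1, 3), (3,
   53), (3, 44), (1, 78)]), ((14, 3, 9, 12), 51, (1, 3, 9, 27), (1, 3, 9, 27), []), ((14, 3, 9,
   13), 40, (1, 3, 9, 27), (1, 3, 9, 27), []), ((14, 3, 9, 15), 48, (1, 3, 9, 27), (1, 3, 9, 27),
   []), ((14, 3, 9, 27), 0, (1, 3, 9, 27), (1, 3, 9, 27), []), ((14, 4, 10, 12), 14, (1, 3, 9,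
   27), (1, 3, 9, 27), []), ((14, 4, 10, 13), 14, (1, 3, 9, 27), (1, 3, 9, 27), []), ((14, 4, 10,
   15), 14, (1, 3, 9, 27), (1, 3, 9, 27), []), ((14, 4, 10, 27), 14, (1, 3, 9, 27), (1, 3, 9, 27),
   []), ((14, 5, 11, 12), 40, (1, 3, 9, 27), (1, 3, 9, 27), []), ((14, 5, 11, 13), 51, (1, 3, 9,
   27), (1, 3, 9, 27), []), ((14, 5, 11, 15), 48, (1, 3, 9, 27), (1, 3, 9, 27), []), ((14, 5, 11,
   27), 0, (1, 3, 9, 27), (1, 3, 9, 27), [(1, 3), (14, 5), (17, 8), (4, 23), (4, 59), (16, 72),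
   (25, 57), (1, 59)]), ((14, 12, 13, 15), 13, (1, 3, 9, 27), (1, 3, 9, 27), []), ((14, 12, 13,
   27), 13, (1, 3, 9, 27), (1, 3, 9, 27), []), ((14, 12, 15, 27), 0, (1, 3, 9, 27), (1, 3, 9, 27),
   [(1, 3), (5, 15), (5, 33), (1, 51)]), ((14, 12, 16, 17), 52, (1, 3, 9, 27), (1, 3, 9, 27), []),
   ((14, 12, 28, 29), 52, (1, 3, 9, 27), (1, 3, 9, 27), []), ((14, 12, 39, 51), 51, (1, 3, 9, 27),
   (1, 3, 9, 27), []), ((14, 12, 40, 53), 49, (1, 3, 9, 27), (1, 3, 9, 27), []), ((14, 12, 41,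
   52), 47, (1, 3, 9, 27), (1, 3, 9, 27), []), ((14, 12, 42, 48), 0, (1, 3, 9, 27), (1, 3, 9, 27),
   [(1, 3), (5, 51), (5, 42), (1, 78)]), ((14, 13, 15, 27), 0, (1, 3, 9, 27), (1, 3, 9, 27), [(1,
   3), (7, 13), (7, 31), (1, 51)]), ((14, 13, 16, 17), 50, (1, 3, 9, 27), (1, 3, 9, 27), []),
   ((14, 13, 28, 29), 50, (1, 3, 9, 27), (1, 3, 9, 27), []), ((14, 13, 39, 51), 49, (1, 3, 9, 27),
   (1, 3, 9, 27), []), ((14, 13, 40, 53), 51, (1, 3, 9, 27), (1, 3, 9, 27), []), ((14, 13, 41,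
   52), 47, (1, 3, 9, 27), (1, 3, 9, 27), []), ((14, 13, 42, 48), 0, (1, 3, 9, 27), (1, 3, 9, 27),
   [(1, 3), (7, 49), (7, 40), (1, 78)]), ((14, 15, 16, 17), 39, (1, 3, 9, 27), (1, 3, 9, 27), []),
   ((14, 15, 28, 29), 0, (1, 3, 9, 27), (1, 3, 9, 27), [(1, 3), (14, 15), (32, 49), (14, 67), (1,
   19)]), ((14, 15, 39, 51), 0, (1, 3, 9, 27), (1, 3, 9, 27), [(1, 3), (14, 15), (43, 33), (62,
   36), (47, 12), (1, 45)]), ((14, 15, 40, 53), 0, (1, 3, 9, 27), (1, 3, 9, 27), []), ((14, 15,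
   41, 52), 47, (1, 3, 9, 27), (1, 3, 9, 27), []), ((14, 15, 42, 48), 51, (1, 3, 9, 27), (1, 3, 9,
   27), []), ((14, 16, 17, 27), 0, (1, 3, 9, 27), (1, 3, 9, 27), [(1, 3), (15, 11), (24, 8), (15,
   9), (1, 17)]), ((14, 27, 28, 29), 39, (1, 3, 9, 27), (1, 3, 9, 27), []), ((14, 27, 39, 51), 39,
   (1, 3, 9, 27), (1, 3, 9, 27), []), ((14, 27, 40, 53), 39, (1, 3, 9, 27), (1, 3, 9, 27), []),
   ((14, 27, 41, 52), 17, (1, 3, 9, 27), (1, 3, 9, 27), []), ((14, 27, 42, 48), 39, (1, 3, 9, 27),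
   (1, 3, 9, 27), []), ((39, 1, 40, 41), 17, (1, 3, 9, 27), (1, 3, 9, 27), []), ((39, 3, 9, 27),
   41, (1, 3, 9, 27), (1, 3, 9, 27), []), ((39, 4, 10, 28), 41, (1, 3, 9, 27), (1, 3, 9, 27), []),
   ((39, 5, 11, 29), 41, (1, 3, 9, 27), (1, 3, 9, 27), []), ((39, 12, 30, 36), 40, (1, 3, 9, 27),
   (1, 3, 9, 27), []), ((39, 13, 31, 37), 40, (1, 3, 9, 27), (1, 3, 9, 27), []), ((39, 14, 32,
   38), 40, (1, 3, 9, 27), (1, 3, 9, 27), []), ((39, 15, 33, 45), 14, (1, 3, 9, 27), (1, 3, 9,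
   27), []), ((39, 42, 48, 51), 52, (1, 3, 9, 27), (1, 3, 9, 27), []), ((39, 43, 49, 53), 52, (1,
   3, 9, 27), (1, 3, 9, 27), []), ((39, 44, 50, 52), 52, (1, 3, 9, 27), (1, 3, 9, 27), []), ((40,
   1, 39, 41), 14, (1, 3, 9, 27), (1, 3, 9, 27), []), ((40, 3, 9, 27), 0, (1, 3, 9, 27), (1, 3, 9,
   27), []), ((40, 4, 10, 28), 0, (1, 3, 9, 27), (1, 3, 9, 27), [(1, 3), (40, 4), (79, 55), (1,
   12)]), ((40, 5, 11, 29), 0, (1, 3, 9, 27), (1, 3, 9, 27), [(1, 3), (40, 5), (79, 56), (1,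
   51)]), ((40, 12, 30, 36), 0, (1, 3, 9, 27), (1, 3, 9, 27), [(1, 3), (40, 12), (1, 42)]), ((40,
   13, 31, 37), 0, (1, 3, 9, 27), (1, 3, 9, 27), [(1, 3), (40, 13), (1, 72)]), ((40, 14, 32, 38),
   0, (1, 3, 9, 27), (1, 3, 9, 27), []), ((40, 15, 33, 45), 48, (1, 3, 9, 27), (1, 3, 9, 27), []),
   ((40, 42, 48, 51), 0, (1, 3, 9, 27), (1, 3, 9, 27), [(1, 3), (40, 42), (52, 42), (1, 30)]),
   ((40, 43, 49, 53), 0, (1, 3, 9, 27), (1, 3, 9, 27), [(1, 3), (40, 43), (52, 43), (1, 69)]),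
   ((40, 44, 50, 52), 0, (1, 3, 9, 27), (1, 3, 9, 27), []), ((41, 1, 39, 40), 17, (1, 3, 9, 27),
   (1, 3, 9, 27), []), ((41, 3, 9, 27), 0, (1, 3, 9, 27), (1, 3, 9, 27), []), ((41, 4, 10, 28), 0,
   (1, 3, 9, 27), (1, 3, 9, 27), [(1, 3), (41, 4), (1, 42)]), ((41, 5, 11, 29), 0, (1, 3, 9, 27),
   (1, 3, 9, 27), [(1, 3), (41, 5), (1, 72)]), ((41, 12, 30, 36), 0, (1, 3, 9, 27), (1, 3, 9, 27),
   [(1, 3), (41, 12), (80, 72), (1, 51)]), ((41, 13, 31, 37), 0, (1, 3, 9, 27), (1, 3, 9, 27),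
   []), ((41, 14, 32, 38), 0, (1, 3, 9, 27), (1, 3, 9, 27), [(1, 3), (41, 14), (80, 74), (1,
   12)]), ((41, 15, 33, 45), 48, (1, 3, 9, 27), (1, 3, 9, 27), []), ((41, 42, 48, 51), 0, (1, 3,
   9, 27), (1, 3, 9, 27), [(1, 3), (41, 42), (68, 39), (1, 24)]), ((41, 43, 49, 53), 0, (1, 3, 9,
   27), (1, 3, 9, 27), []), ((41, 44, 50, 52), 0, (1, 3, 9, 27), (1, 3, 9, 27), [(1, 3), (41, 44),
   (68, 41), (1, 66)])]
/-- Candidates for the last vector. -/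
def cand (e : ℕ × ℕ × List (N4 × ℕ)) (a b : ℕ) : List ℕ :=
  match (e.2.2.flatMap fun g => [tab g.2 a, tab g.2 b]).find?
    fun y => !(Nat.beq y a || Nat.beq y b || Nat.beq y e.2.1) with
  | some y => [y]
  | none => NL
/-- One step. -/
def St (f : Fin 4 → V4) (p q : ℕ × ℕ) : Prop :=
  (Gen.co f (vc p.1) = vc q.1 ∧ Gen.co f (vc p.2) = vc q.2) ∨
  (Gen.co f (vc q.1) = vc p.1 ∧ Gen.co f (vc q.2) = vc p.2) ∨
  ∃ w ∈ WL, Gen.co (mt w) (vc p.1) = vc q.1 ∧ Gen.co (mt w) (vc p.2) = vc q.2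
instance (f : Fin 4 → V4) (p q : ℕ × ℕ) : Decidable (St f p q) := by unfold St; infer_instance
/-- Chains. -/
def Ch (f : Fin 4 → V4) : ℕ × ℕ → List (ℕ × ℕ) → Prop
  | p, [] => vc p.1 = ee 0 ∧ ¬ Pm (vc p.2)
  | p, q :: l => St f p q ∧ Ch f q l
/-- Decidability. -/
instance decCh (f : Fin 4 → V4) : ∀ p l, Decidable (Ch f p l)
  | _, [] => inferInstanceAs (Decidable (_ ∧ _))
  | _, q :: l => @instDecidableAnd _ _ _ (decCh f q l)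
/-- Valid certificates. -/
def Ok (e : N4 × ℕ × N4 × N4 × List (ℕ × ℕ)) : Prop :=
  (vc e.2.1 ≠ 0 ∧ Gen.co (mt e.1) (vc e.2.1) = 0) ∨
  (∃ p ∈ e.2.2.2.2.head?, vc p.1 = ee 0 ∧ (∃ i, vc p.2 = ee i) ∧ Ch (mt e.1) p e.2.2.2.2.tail) ∨
  (e.2.2.1 ∈ WL ∧ e.2.2.2.1 ∈ WL ∧ ∃ f ∈ GL1 ++ GL24 ++ GL48 ++ GL3 ++ GL4,
    ∀ i, mt e.1 i = Gen.co (mt e.2.2.1) (Gen.co f (mt e.2.2.2.1 i)))
instance : DecidablePred Ok := fun _ => by unfold Ok; infer_instance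
/-- Lists generated by three reflections. -/
def OkW : List N4 → Prop
  | [] => True
  | w :: l => (mt w = ee ∨ ∃ w' ∈ l, ∃ u ∈ [ee 1, ee 1 - ee 2, ee 2 - ee 3], ∀ i, mt w i = rf u (mt w' i)) ∧
    OkW l
/-- Decidability. -/
instance decW : ∀ l, Decidable (OkW l)
  | [] => isTrue trivial
  | _ :: l => @instDecidableAnd _ _ _ (decW l)

theorem fa : ∀ e ∈ RP, nm (vc e.1) = e.2.1 ∧ ∀ g ∈ e.2.2, g.1 ∈ WL ∧ Gen.co (mt g.1) (vc e.1) = vc e.1 ∧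
    g ∈ [g0, g1, g2, g3, g4] := by decide +kernel

theorem fa' : ∀ g ∈ [g0, g1, g2, g3, g4], ∀ v, tab g.2 (cd v) = nm (Gen.co (mt g.1) v) := by
  decide +kernel

theorem fb0 : ∀ e ∈ RP, ∀ a ∈ NL, ∀ b ∈ NL, a < b → ∀ c ∈ cand e a b, b < c →
    (∀ g ∈ e.2.2, ∀ y ∈ [a, b, c], tab g.2 y ∈ [a, b, c, e.2.1]) →
    e.2.1 ∈ [a, b, c] ∨ (e.1, a, b, c) ∈ DT.map Prod.fst := by decide +kernel

theorem fb : ∀ e ∈ RP, ∀ a ∈ NL, ∀ b ∈ NL, a < b → ∀ c ∈ NL, b < c →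
    (∀ g ∈ e.2.2, ∀ y ∈ [a, b, c], tab g.2 y ∈ [a, b, c, e.2.1]) →
    e.2.1 ∈ [a, b, c] ∨ (e.1, a, b, c) ∈ DT.map Prod.fst := fun e he a ha b hb l c hc l' k => by
  refine fb0 e he a ha b hb l c ?_ l' k
  unfold cand
  split
  · next y hy =>
    have k1 := List.find?_some hy
    obtain ⟨g, hg, k2⟩ := List.mem_flatMap.1 (List.mem_of_find?_eq_some hy)
    have k3 := k g hg a (by simp)
    have k4 := k g hg b (by simp)
    simp only [List.mem_cons, List.not_mem_nil, or_false, Bool.not_eq_true', Bool.or_eq_false_iff,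
      ← Bool.not_eq_true, Nat.beq_eq, Bool.or_eq_true, not_or] at k1 k2 k3 k4 ⊢
    omega
  · exact hc

theorem fc : ∀ e ∈ DT, Ok e := by decide +kernel

theorem fd : ∀ v : V4, v = 0 ∨ ∃ w ∈ WL, cd (Gen.co (mt w) v) ∈ RP.map Prod.fst := by decide +kernel

theorem fe : ∀ v : V4, vc (cd v) = v ∧ (cd v ≤ cd (-v) → v = 0 ∨ cd v ∈ NL) ∧
    (Pm v → cd v ∈ [1, 2, 3, 6, 9, 18, 27, 54]) := by decide +kernel

theorem ff : OkW WL ∧ ∀ w ∈ WL, mt w 0 = ee 0 ∧ (∀ i, Pm (mt w i)) ∧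
    ∀ v, Gen.co (mt w) v = 0 → v = 0 := by decide +kernel

theorem fg : ∀ a ∈ [1, 2, 3, 6, 9, 18, 27, 54], ∀ b ∈ [1, 2, 3, 6, 9, 18, 27, 54],
    ∀ c ∈ [1, 2, 3, 6, 9, 18, 27, 54], (1, a, b, c) ∈ WL ∨
      ∃ i k, i ≠ k ∧ nm (mt (1, a, b, c) i) = nm (mt (1, a, b, c) k) := by decide +kernel

end Cfsg.Lib.S62.CL1
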