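import Cfsg.Agent.S62.Defs

/-!
More definitions for the standard `3`-component problem with component `Sp₆(2)`.
-/

set_option autoImplicit false

namespace Cfsg.Lib.S62

open Cfsg Subgroup Cfsg.Lib.Recog.P43 Cfsg.Lib.U6 Cfsg.Lib.Spor.PK Cfsg.Lib.F43

/-- Signed permutations fixing the first basis vector. -/
def SW (w : V4 → V4) : Prop := Lin w ∧ Function.Injective w ∧ w (ee 0) = ee 0 ∧ Sg w

/-- Double coset representatives: signed permutations. -/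
def GL1 : List (Fin 4 → V4) :=
  [![![1, 0, 0, 0], ![0, 1, 0, 0], ![0, 0, 1, 0], ![0, 0, 0, 1]],
   ![![2, 0, 0, 0], ![0, 1, 0, 0], ![0, 0, 1, 0], ![0, 0, 0, 1]],
   ![![0, 1, 0, 0], ![1, 0, 0, 0], ![0, 0, 1, 0], ![0, 0, 0, 1]]]
/-- Double coset representatives: further isometries. -/
def GL24 : List (Fin 4 → V4) :=
  [![![1, 1, 1, 1], ![2, 2, 1, 1], ![2, 1, 2, 1], ![1, 2, 2, 1]],
   ![![2, 1, 1, 1], ![1, 2, 1, 1], ![1, 1, 2, 1], ![2, 2, 2, 1]]]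
/-- Double coset representatives: proper similitudes. -/
def GL48 : List (Fin 4 → V4) :=
  [![![0, 1, 1, 0], ![0, 2, 1, 0], ![1, 0, 0, 1], ![2, 0, 0, 1]],
   ![![1, 1, 0, 0], ![2, 1, 0, 0], ![0, 0, 1, 1], ![0, 0, 2, 1]],
   ![![2, 1, 0, 0], ![1, 1, 0, 0], ![0, 0, 1, 1], ![0, 0, 2, 1]]]
/-- Double coset representatives: affine maps. -/
def GL3 : List (Fin 4 → V4) :=
  [![![1, 1, 0, 0], ![0, 1, 0, 0], ![0, 0, 1, 0], ![0, 0, 0, 1]],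
   ![![1, 1, 1, 0], ![0, 1, 0, 0], ![0, 0, 1, 0], ![0, 0, 0, 1]],
   ![![1, 1, 1, 1], ![0, 1, 0, 0], ![0, 0, 1, 0], ![0, 0, 0, 1]],
   ![![2, 1, 0, 0], ![0, 1, 0, 0], ![0, 0, 1, 0], ![0, 0, 0, 1]],
   ![![2, 1, 1, 0], ![0, 1, 0, 0], ![0, 0, 1, 0], ![0, 0, 0, 1]],
   ![![2, 1, 1, 1], ![0, 1, 0, 0], ![0, 0, 1, 0], ![0, 0, 0, 1]]]
/-- Double coset representatives: the elliptic case. -/
def GL4 : List (Fin 4 → V4) :=
  [![![0, 1, 0, 0], ![1, 0, 0, 0], ![0, 0, 1, 1], ![0, 0, 2, 1]],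
   ![![0, 1, 1, 0], ![1, 2, 1, 0], ![2, 2, 1, 0], ![0, 0, 0, 1]],
   ![![1, 1, 1, 0], ![0, 2, 1, 0], ![2, 1, 1, 1], ![1, 2, 2, 1]],
   ![![1, 1, 1, 1], ![2, 1, 1, 0], ![2, 1, 0, 1], ![2, 0, 1, 1]],
   ![![2, 1, 1, 0], ![0, 2, 1, 0], ![1, 1, 1, 1], ![2, 2, 2, 1]],
   ![![2, 1, 1, 1], ![1, 1, 1, 0], ![1, 1, 0, 1], ![1, 0, 1, 1]]]
/-- `M` lies in the double coset of a member of the list. -/
def InGL (l : List (Fin 4 → V4)) (M : V4 → V4) : Prop :=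
  ∃ f ∈ l, ∃ w w', SW w ∧ SW w' ∧ ∀ v, M v = w (Gen.co f (w' v))

/-- The orthonormal frames adapted to `vv`. -/
def fw (k : Fin 3) (ε : Bool) : Fin 4 → V4 :=
  ![cond ε (gg (k + 1) + gg (k + 2)) (gg (k + 1) - gg (k + 2)),
    cond ε (gg (k + 1) - gg (k + 2)) (gg (k + 1) + gg (k + 2)), -(gg k + vv), -(gg k - vv)]

variable {G : Type*} [Group G]

/-- The cyclic permutation of the last three basis vectors. -/
def BD.σ (D : BD G) : G := cyW D.a1 D.b1 D.a2 D.b2 D.a3 D.b3 D.x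

/-- The affine case: three commuting elements of order nine. -/
structure BD.TF (D : BD G) (f : Fin 3 → G) : Prop where
  cm : ∀ i k, Commute (f i) (f k)
  act : ∀ i, D.Act (f i) (tr (ee i.succ))
  cube : (∀ i, f i ^ 3 = D.j (ee i.succ)) ∨ ∀ i, f i ^ 3 = D.j (-ee i.succ)
  cX : ∀ i, ∀ y ∈ D.X, Commute (f i) y
  rot : ∀ i, D.σ * f i * D.σ⁻¹ = f (i + 1)
  pos : ∀ M, D.A M → M (ee 0) 0 = 1
  hyp : ∀ M, D.A M → ∀ v, v 0 = 0 → M v 0 = 0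

/-- The elliptic case: weight spaces in `O₂(C(s))`. -/
structure BD.C4D (D : BD G) (s : G) (V : Subgroup G) : Prop where
  s2 : orderOf s = 2
  sL : ∀ l ∈ D.L, Commute s l
  w1 : ∀ g ∈ Qc s, ∀ i k, i ≠ 0 → k ≠ 0 → i ≠ k → Commute g (D.j (ee i)) →
    Commute g (D.j (ee k)) → g = 1 ∨ g = s
  w2 : (∀ g ∈ Qc s, Commute g (D.j (ee 1)) → Commute g (D.j xx) → g = 1 ∨ g = s) →
    ∀ g ∈ Qc s, ∀ i k l, Dis 0 i k l → Commute g (D.j (ee i)) →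
      Commute g (D.j (ee k + ee l)) ∨ Commute g (D.j (ee k - ee l)) → g = 1 ∨ g = s
  w3 : ∀ z : V4, z 0 = 0 → z ≠ 0 → bf z z = 0 →
    Nat.card ↥(Qc s ⊓ centralizer (D.j '' {w | w 0 = 0 ∧ bf z w = 0})) ≤ 8
  cV : Nat.card V = 8
  sV : s ∈ V
  cs : ∀ g ∈ V, g * g = 1 ∧ Commute g s ∧ Commute g (D.j (ee 1)) ∧ Commute g (D.j xx)
  nV : D.j vv ∈ normalizer (V : Set G)
  fV : ∀ g ∈ V, Commute g (D.j vv) → g = 1 ∨ g = s
  lV : ∀ g ∈ Qc s, Commute g (D.j (ee 1)) → Commute g (D.j xx) → g ∈ V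
  zV : ∀ g ∈ V, ∀ q ∈ Qc s, Commute q (D.j xx) → Commute g q

/-- The centralizer of the first member of a frame, seen from the reflection in `w 2 - w 3`. -/
structure JD.LS (D : JD G) (w : Fin 4 → V4) (s : G) (K R : Subgroup G) : Prop where
  sw : SwF K (D.j (w 1)) (D.j (w 2 + w 3)) s R
  two : ∀ g, Commute g (D.j (w 0)) → (orderOf g).Coprime 3 → g ∈ K
  cK : ∀ g ∈ K, Commute g (D.j (w 0))
  jK : ∀ u, bf (w 0) u = 0 → D.j u ∈ K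

/-- The largest normal `3`-subgroup of the centralizer of the spin plane. -/
structure RE (X : Subgroup G) (v z y x : G) (E : Subgroup G) : Prop where
  le : E ≤ X
  nrm : ∀ g ∈ X, g ∈ normalizer (E : Set G)
  card : Nat.card E = 81
  zE : z ∈ E
  vE : v ∈ E
  yE : y ∈ E
  xE : x ∉ E
  cy : ∀ g ∈ E, g * y * g⁻¹ * y⁻¹ ∈ zpowers z
  nc : ∃ g ∈ E, ¬ Commute g y
  max : ∀ C : Subgroup G, E ≤ C → C ≤ X → IsPGroup 3 C →
    (∀ g ∈ X, g ∈ normalizer (C : Set G)) → C = E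

end Cfsg.Lib.S62
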