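import Cfsg.Agent.S62.K0

/-! Finite checks in the model of `Sp₆(2)`: the centralizer of a transvection. -/

set_option autoImplicit false
set_option maxRecDepth 100000
set_option linter.unusedSimpArgs false
set_option linter.unusedSectionVars false
set_option linter.unusedVariables false
set_option maxHeartbeats 1000000

namespace Cfsg.Lib.S62.KF

open Subgroup Cfsg.Lib.Spor Cfsg.Lib.Spor.Bulk Cfsg.Lib.Spor.PK Cfsg.Lib.Spor.WF Cfsg.Lib.F43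

variable {G : Type*} [Group G] {a1 b1 a2 b2 a3 b3 x c d : G}

/-- more subgroups -/
@[reducible] def KFM : PM := { NS with
  SW := [([[1],[9,3,1],[3,4,9,3,4,3,1],[9,8,7,3],[7,6,8,6,7,6,1]],
    [⟨2, [1344], [[0, 2], [0, 4], [3], [0, 1]]⟩,
     ⟨0, [960, 769, 1602, 1411, 577, 1282, 195, 450, 1091, 67, 642, 835, 1539, 1731, 323], []⟩]),
   ([[1],[9,3,1],[3,4,9,3,4,3,1]],
    [⟨2, [1344], [[0, 2], [0, 1]]⟩,
     ⟨0, [960, 1409, 193], []⟩]),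
   ([[3],[4],[5],[6],[8]],
    [⟨3, [960, 1409, 1604, 451, 770], [[4, 0, 1, 0, 3], [2, 3, 3]]⟩,
     ⟨2, [897, 1024, 256, 1216], [[1, 0, 0, 0, 1, 0, 1], [0]]⟩,
     ⟨1, [1728, 1, 1281, 641, 833], [[0, 1, 1, 0], [1, 1, 0, 1, 0]]⟩,
     ⟨0, [832, 1729, 1281], []⟩])] }

instance : NeZero KFM.n := ⟨by decide⟩

theorem KFM_ok : KFM.ok = true := NS_ok

theorem KFM_subs : KFM.subsOK = true := by decide +kernel

theorem KFM_s0 : sub (gNS a1 b1 a2 b2 a3 b3 x c d) (KFM.W 0) = gen [a1, a1 * a2 * d, a1 * a2 * b2 * a2 * d * b2 * a2, a2 * x * c * d, a1 * b3 * x * b3 * c * b3 * x] := by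
  change gen (List.map (wv _) [[1],[9,3,1],[3,4,9,3,4,3,1],[9,8,7,3],[7,6,8,6,7,6,1]]) = _
  simp only [List.map_cons, List.map_nil, wv_cons, wv_nil, one_mul, gNS_1, gNS_2, gNS_3, gNS_4, gNS_5, gNS_6, gNS_7, gNS_8, gNS_9]

theorem KFM_s1 : sub (gNS a1 b1 a2 b2 a3 b3 x c d) (KFM.W 1) = gen [a1, a1 * a2 * d, a1 * a2 * b2 * a2 * d * b2 * a2] := by
  change gen (List.map (wv _) [[1],[9,3,1],[3,4,9,3,4,3,1]]) = _
  simp only [List.map_cons, List.map_nil, wv_cons, wv_nil, one_mul, gNS_1, gNS_2, gNS_3, gNS_4, gNS_5, gNS_6, gNS_7, gNS_8, gNS_9]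

theorem KFM_s2 : sub (gNS a1 b1 a2 b2 a3 b3 x c d) (KFM.W 2) = gen [a2, b2, a3, b3, c] := by
  change gen (List.map (wv _) [[3],[4],[5],[6],[8]]) = _
  simp only [List.map_cons, List.map_nil, wv_cons, wv_nil, one_mul, gNS_1, gNS_2, gNS_3, gNS_4, gNS_5, gNS_6, gNS_7, gNS_8, gNS_9]

theorem KFM_base : M12S.Base KFM [2,3,1,0,4,16,10] := K0.NS_base

theorem KFM_crd_R (he : Emb NS.m (gNS a1 b1 a2 b2 a3 b3 x c d)) : Nat.card (gen [a1, a1 * a2 * d, a1 * a2 * b2 * a2 * d * b2 * a2, a2 * x * c * d, a1 * b3 * x * b3 * c * b3 * x] : Subgroup G) = 32 :=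
  KFM_s0 (G := G) ▸ (PM.card_of_emb KFM_ok KFM_subs (show Emb KFM.m _ from he) 0).trans (by decide +kernel)

theorem KFM_crd_V (he : Emb NS.m (gNS a1 b1 a2 b2 a3 b3 x c d)) : Nat.card (gen [a1, a1 * a2 * d, a1 * a2 * b2 * a2 * d * b2 * a2] : Subgroup G) = 8 :=
  KFM_s1 (G := G) ▸ (PM.card_of_emb KFM_ok KFM_subs (show Emb KFM.m _ from he) 1).trans (by decide +kernel)

theorem KFM_crd_S (he : Emb NS.m (gNS a1 b1 a2 b2 a3 b3 x c d)) : Nat.card (gen [a2, b2, a3, b3, c] : Subgroup G) = 720 :=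
  KFM_s2 (G := G) ▸ (PM.card_of_emb KFM_ok KFM_subs (show Emb KFM.m _ from he) 2).trans (by decide +kernel)

theorem f_r (he : Emb NS.m (gNS a1 b1 a2 b2 a3 b3 x c d)) :
    ∀ g ∈ gen [a1, a1 * a2 * d, a1 * a2 * b2 * a2 * d * b2 * a2, a2 * x * c * d, a1 * b3 * x * b3 * c *
    b3 * x], g * g = 1 ∧ g * a1 = a1 * g ∧ (g * a3 * b3 = a3 * b3 * g → g ∈ gen [a1, a1 * a2 * d, a1
    * a2 * b2 * a2 * d * b2 * a2]) ∧ ((g * a2 * b2 * a3 * b3 = a2 * b2 * a3 * b3 * g ∨ g * a2 * b2 *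
    b3 * a3 = a2 * b2 * b3 * a3 * g) → (g = 1 ∨ g = a1)) := by
  have := M12S.holdsB KFM_ok KFM_subs KFM_base (show Emb KFM.m _ from he) (p := (.all 0 40 (.and (.eq [40,40] []) (.and (.eq [1,40] [40,1]) (.and (.imp (.eq [6,5,40] [40,6,5]) (.ex
      1 41 (.eq [40] [41]))) (.imp (.or (.eq [6,5,4,3,40] [40,6,5,4,3]) (.eq [5,6,4,3,40]
      [40,5,6,4,3])) (.or (.eq [40] []) (.eq [40] [1])))))))) (by decide +kernel)
  simp only [Fm.sem, wv_cons, wv_nil, one_mul, upd_apply, Nat.reduceEqDiff, ↓reduceIte, gNS_1, gNS_2, gNS_3, gNS_4, gNS_5, gNS_6, gNS_7, gNS_8, gNS_9, KFM_s0, KFM_s1, KFM_s2, exists_eq_right'] at this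
  exact this

theorem f_v (he : Emb NS.m (gNS a1 b1 a2 b2 a3 b3 x c d)) :
    ∀ g ∈ gen [a1, a1 * a2 * d, a1 * a2 * b2 * a2 * d * b2 * a2], g * a3 * b3 = a3 * b3 * g ∧ (g * a2 *
    b2 = a2 * b2 * g → (g = 1 ∨ g = a1)) := by
  have := M12S.holdsB KFM_ok KFM_subs KFM_base (show Emb KFM.m _ from he) (p := (.all 1 40 (.and (.eq [6,5,40] [40,6,5]) (.imp (.eq [4,3,40] [40,4,3]) (.or (.eq [40] []) (.eq [40]
      [1])))))) (by decide +kernel)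
  simp only [Fm.sem, wv_cons, wv_nil, one_mul, upd_apply, Nat.reduceEqDiff, ↓reduceIte, gNS_1, gNS_2, gNS_3, gNS_4, gNS_5, gNS_6, gNS_7, gNS_8, gNS_9, KFM_s0, KFM_s1, KFM_s2, exists_eq_right'] at this
  exact this

theorem f_a2 (he : Emb NS.m (gNS a1 b1 a2 b2 a3 b3 x c d)) :
    ¬ (a2 ∈ gen [a1, a1 * a2 * d, a1 * a2 * b2 * a2 * d * b2 * a2]) ∧ c * x ∈ gen [a1, a1 * a2 * d, a1 *
    a2 * b2 * a2 * d * b2 * a2, a2 * x * c * d, a1 * b3 * x * b3 * c * b3 * x] ∧ a2 * d ∈ gen [a1,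
    a1 * a2 * d, a1 * a2 * b2 * a2 * d * b2 * a2, a2 * x * c * d, a1 * b3 * x * b3 * c * b3 * x] := by
  have := M12S.holdsB KFM_ok KFM_subs KFM_base (show Emb KFM.m _ from he) (p := (.and (.not (.ex 1 40 (.eq [3] [40]))) (.and (.ex 0 40 (.eq [7,8] [40])) (.ex 0 40 (.eq [9,3]
      [40]))))) (by decide +kernel)
  simp only [Fm.sem, wv_cons, wv_nil, one_mul, upd_apply, Nat.reduceEqDiff, ↓reduceIte, gNS_1, gNS_2, gNS_3, gNS_4, gNS_5, gNS_6, gNS_7, gNS_8, gNS_9, KFM_s0, KFM_s1, KFM_s2, exists_eq_right'] at this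
  exact this

theorem f_s (he : Emb NS.m (gNS a1 b1 a2 b2 a3 b3 x c d)) :
    ∀ g ∈ gen [a2, b2, a3, b3, c], g * g = 1 → g * a2 * b2 * g * b2 * a2 * g * a2 * b2 * g * b2 * a2 * g
    * a2 * b2 * g * b2 * a2 * g * a2 * b2 * g * b2 * a2 * g * a2 * b2 * g * b2 * a2 * g * a2 * b2 *
    g * b2 * a2 * g * a2 * b2 * g * b2 * a2 * g * a2 * b2 * g * b2 * a2 * g * a2 * b2 * g * b2 * a2
    * g * a2 * b2 * g * b2 * a2 * g * a2 * b2 * g * b2 * a2 * g * a2 * b2 * g * b2 * a2 * g * a2 *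
    b2 * g * b2 * a2 * g * a2 * b2 * g * b2 * a2 * g * a2 * b2 * g * b2 * a2 * g * a2 * b2 * g * b2
    * a2 = 1 → g * a2 * b2 * a3 * b3 * g * b3 * a3 * b2 * a2 * g * a2 * b2 * a3 * b3 * g * b3 * a3 *
    b2 * a2 * g * a2 * b2 * a3 * b3 * g * b3 * a3 * b2 * a2 * g * a2 * b2 * a3 * b3 * g * b3 * a3 *
    b2 * a2 * g * a2 * b2 * a3 * b3 * g * b3 * a3 * b2 * a2 * g * a2 * b2 * a3 * b3 * g * b3 * a3 *
    b2 * a2 * g * a2 * b2 * a3 * b3 * g * b3 * a3 * b2 * a2 * g * a2 * b2 * a3 * b3 * g * b3 * a3 *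
    b2 * a2 * g * a2 * b2 * a3 * b3 * g * b3 * a3 * b2 * a2 * g * a2 * b2 * a3 * b3 * g * b3 * a3 *
    b2 * a2 * g * a2 * b2 * a3 * b3 * g * b3 * a3 * b2 * a2 * g * a2 * b2 * a3 * b3 * g * b3 * a3 *
    b2 * a2 * g * a2 * b2 * a3 * b3 * g * b3 * a3 * b2 * a2 * g * a2 * b2 * a3 * b3 * g * b3 * a3 *
    b2 * a2 * g * a2 * b2 * a3 * b3 * g * b3 * a3 * b2 * a2 * g * a2 * b2 * a3 * b3 * g * b3 * a3 *
    b2 * a2 = 1 → g = 1 := by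
  have := M12S.holdsB KFM_ok KFM_subs KFM_base (show Emb KFM.m _ from he) (p := (.all 2 40 (.imp (.eq [40,40] []) (.imp (.eq
      [3,4,40,4,3,40,3,4,40,4,3,40,3,4,40,4,3,40,3,4,40,4,3,40,3,4,40,4,3,40,3,4,40,4,3,40,3,4,40,4,3,40,3,4,40,4,3,40,3,4,40,4,3,40,3,4,40,4,3,40,3,4,40,4,3,40,3,4,40,4,3,40,3,4,40,4,3,40,3,4,40,4,3,40,3,4,40,4,3,40,3,4,40,4,3,40]
      []) (.imp (.eq
      [3,4,5,6,40,6,5,4,3,40,3,4,5,6,40,6,5,4,3,40,3,4,5,6,40,6,5,4,3,40,3,4,5,6,40,6,5,4,3,40,3,4,5,6,40,6,5,4,3,40,3,4,5,6,40,6,5,4,3,40,3,4,5,6,40,6,5,4,3,40,3,4,5,6,40,6,5,4,3,40,3,4,5,6,40,6,5,4,3,40,3,4,5,6,40,6,5,4,3,40,3,4,5,6,40,6,5,4,3,40,3,4,5,6,40,6,5,4,3,40,3,4,5,6,40,6,5,4,3,40,3,4,5,6,40,6,5,4,3,40,3,4,5,6,40,6,5,4,3,40,3,4,5,6,40,6,5,4,3,40]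
      []) (.eq [40] [])))))) (by decide +kernel)
  simp only [Fm.sem, wv_cons, wv_nil, one_mul, upd_apply, Nat.reduceEqDiff, ↓reduceIte, gNS_1, gNS_2, gNS_3, gNS_4, gNS_5, gNS_6, gNS_7, gNS_8, gNS_9, KFM_s0, KFM_s1, KFM_s2, exists_eq_right'] at this
  exact this

end Cfsg.Lib.S62.KF
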