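import Cfsg.Agent.S62.K0

/-! Finite checks in the model of `Sp₆(2)`: the centralizer of the interchanging involution. -/

set_option autoImplicit false
set_option maxRecDepth 100000
set_option linter.unusedSimpArgs false
set_option linter.unusedSectionVars false
set_option linter.unusedVariables false
set_option maxHeartbeats 1000000

namespace Cfsg.Lib.S62.KG

open Subgroup Cfsg.Lib.Spor Cfsg.Lib.Spor.Bulk Cfsg.Lib.Spor.PK Cfsg.Lib.Spor.WF Cfsg.Lib.F43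

variable {G : Type*} [Group G] {a1 b1 a2 b2 a3 b3 x c d : G}

/-- more subgroups -/
@[reducible] def KGM : PM := { NS with
  SW := [([[8],[1,7],[2,1,7,2],[6,4,8,6,4],[6,4,7,6,4,1],[6,4,2,7,6,4,1,2]],
    [⟨0, [64, 323, 579], [[1], [2], [5], [4]]⟩,
     ⟨2, [1344, 1729, 1538, 769, 258, 963, 1152], [[0, 1, 2, 0], [0, 3]]⟩,
     ⟨3, [1664, 1281, 897], []⟩]),
   ([[1],[2],[5,3],[6,4]],
    [⟨2, [1344, 769, 898, 1474, 450, 1027, 387, 1603], [[3], [0, 1, 0]]⟩,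
     ⟨1, [320], [[1]]⟩,
     ⟨3, [1664], []⟩]),
   ([[1],[9,3,1],[3,4,9,3,4,3,1],[9,8,7,3],[7,6,8,6,7,6,1]],
    [⟨2, [1344], [[0, 1], [0, 2], [3], [0, 4]]⟩,
     ⟨0, [1408, 961, 1602, 771, 193, 66, 1091, 1282, 579, 451, 1538, 835, 1731, 643, 323], []⟩])] }

instance : NeZero KGM.n := ⟨by decide⟩

theorem KGM_ok : KGM.ok = true := NS_ok

theorem KGM_subs : KGM.subsOK = true := by decide +kernel

theorem KGM_s0 : sub (gNS a1 b1 a2 b2 a3 b3 x c d) (KGM.W 0) = gen [c, x * a1, b1 * x * a1 * b1, b2 * b3 * c * b2 * b3, a1 * b2 * b3 * x * b2 * b3, b1 * a1 * b2 * b3 * x * b1 * b2 * b3] := by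
  change gen (List.map (wv _) [[8],[1,7],[2,1,7,2],[6,4,8,6,4],[6,4,7,6,4,1],[6,4,2,7,6,4,1,2]]) = _
  simp only [List.map_cons, List.map_nil, wv_cons, wv_nil, one_mul, gNS_1, gNS_2, gNS_3, gNS_4, gNS_5, gNS_6, gNS_7, gNS_8, gNS_9]

theorem KGM_s1 : sub (gNS a1 b1 a2 b2 a3 b3 x c d) (KGM.W 1) = gen [a1, b1, a2 * a3, b2 * b3] := by
  change gen (List.map (wv _) [[1],[2],[5,3],[6,4]]) = _
  simp only [List.map_cons, List.map_nil, wv_cons, wv_nil, one_mul, gNS_1, gNS_2, gNS_3, gNS_4, gNS_5, gNS_6, gNS_7, gNS_8, gNS_9]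

theorem KGM_s2 : sub (gNS a1 b1 a2 b2 a3 b3 x c d) (KGM.W 2) = gen [a1, a1 * a2 * d, a1 * a2 * b2 * a2 * d * b2 * a2, a2 * x * c * d, a1 * b3 * x * b3 * c * b3 * x] := by
  change gen (List.map (wv _) [[1],[9,3,1],[3,4,9,3,4,3,1],[9,8,7,3],[7,6,8,6,7,6,1]]) = _
  simp only [List.map_cons, List.map_nil, wv_cons, wv_nil, one_mul, gNS_1, gNS_2, gNS_3, gNS_4, gNS_5, gNS_6, gNS_7, gNS_8, gNS_9]

theorem KGM_base : M12S.Base KGM [2,3,1,0,4,16,10] := K0.NS_base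

theorem KGM_crd_R (he : Emb NS.m (gNS a1 b1 a2 b2 a3 b3 x c d)) : Nat.card (gen [c, x * a1, b1 * x * a1 * b1, b2 * b3 * c * b2 * b3, a1 * b2 * b3 * x * b2 * b3, b1 * a1 * b2 * b3 * x * b1 * b2 * b3] : Subgroup G) = 128 :=
  KGM_s0 (G := G) ▸ (PM.card_of_emb KGM_ok KGM_subs (show Emb KGM.m _ from he) 0).trans (by decide +kernel)

theorem KGM_crd_S (he : Emb NS.m (gNS a1 b1 a2 b2 a3 b3 x c d)) : Nat.card (gen [a1, b1, a2 * a3, b2 * b3] : Subgroup G) = 36 :=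
  KGM_s1 (G := G) ▸ (PM.card_of_emb KGM_ok KGM_subs (show Emb KGM.m _ from he) 1).trans (by decide +kernel)

theorem f_n (he : Emb NS.m (gNS a1 b1 a2 b2 a3 b3 x c d)) :
    ∀ r ∈ gen [c, x * a1, b1 * x * a1 * b1, b2 * b3 * c * b2 * b3, a1 * b2 * b3 * x * b2 * b3, b1 * a1 *
    b2 * b3 * x * b1 * b2 * b3], r * a1 * a2 * b2 * a2 * a3 * b3 * a3 * x * b2 * a2 * b3 * a3 * x *
    b2 * b3 * x = a1 * a2 * b2 * a2 * a3 * b3 * a3 * x * b2 * a2 * b3 * a3 * x * b2 * b3 * x * r ∧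
    a1 * r * a1 ∈ gen [c, x * a1, b1 * x * a1 * b1, b2 * b3 * c * b2 * b3, a1 * b2 * b3 * x * b2 *
    b3, b1 * a1 * b2 * b3 * x * b1 * b2 * b3] ∧ b1 * r * b1 ∈ gen [c, x * a1, b1 * x * a1 * b1, b2 *
    b3 * c * b2 * b3, a1 * b2 * b3 * x * b2 * b3, b1 * a1 * b2 * b3 * x * b1 * b2 * b3] ∧ a2 * a3 *
    r * a2 * a3 ∈ gen [c, x * a1, b1 * x * a1 * b1, b2 * b3 * c * b2 * b3, a1 * b2 * b3 * x * b2 *
    b3, b1 * a1 * b2 * b3 * x * b1 * b2 * b3] ∧ b2 * b3 * r * b2 * b3 ∈ gen [c, x * a1, b1 * x * a1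
    * b1, b2 * b3 * c * b2 * b3, a1 * b2 * b3 * x * b2 * b3, b1 * a1 * b2 * b3 * x * b1 * b2 * b3] := by
  have := M12S.holdsB KGM_ok KGM_subs KGM_base (show Emb KGM.m _ from he) (p := (.all 0 40 (.and (.eq [7,6,4,7,5,6,3,4,7,5,6,5,3,4,3,1,40] [40,7,6,4,7,5,6,3,4,7,5,6,5,3,4,3,1])
      (.and (.ex 0 41 (.eq [1,40,1] [41])) (.and (.ex 0 41 (.eq [2,40,2] [41])) (.and (.ex 0 41 (.eq
      [5,3,40,5,3] [41])) (.ex 0 41 (.eq [6,4,40,6,4] [41])))))))) (by decide +kernel)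
  simp only [Fm.sem, wv_cons, wv_nil, one_mul, upd_apply, Nat.reduceEqDiff, ↓reduceIte, gNS_1, gNS_2, gNS_3, gNS_4, gNS_5, gNS_6, gNS_7, gNS_8, gNS_9, KGM_s0, KGM_s1, KGM_s2, exists_eq_right'] at this
  exact this

theorem f_m (he : Emb NS.m (gNS a1 b1 a2 b2 a3 b3 x c d)) :
    a1 * a2 * b2 * a2 * a3 * b3 * a3 * x * b2 * a2 * b3 * a3 * x * b2 * b3 * x ∈ gen [c, x * a1, b1 * x
    * a1 * b1, b2 * b3 * c * b2 * b3, a1 * b2 * b3 * x * b2 * b3, b1 * a1 * b2 * b3 * x * b1 * b2 *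
    b3] ∧ a2 * b2 * a3 * b3 ∈ gen [a1, b1, a2 * a3, b2 * b3] ∧ a2 * a3 * a2 * a3 = 1 ∧ b2 * b3 * b2
    * b3 = 1 := by
  have := M12S.holdsB KGM_ok KGM_subs KGM_base (show Emb KGM.m _ from he) (p := (.and (.ex 0 40 (.eq [7,6,4,7,5,6,3,4,7,5,6,5,3,4,3,1] [40])) (.and (.ex 1 40 (.eq [6,5,4,3] [40]))
      (.and (.eq [5,3,5,3] []) (.eq [6,4,6,4] []))))) (by decide +kernel)
  simp only [Fm.sem, wv_cons, wv_nil, one_mul, upd_apply, Nat.reduceEqDiff, ↓reduceIte, gNS_1, gNS_2, gNS_3, gNS_4, gNS_5, gNS_6, gNS_7, gNS_8, gNS_9, KGM_s0, KGM_s1, KGM_s2, exists_eq_right'] at this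
  exact this

theorem f_max (he : Emb NS.m (gNS a1 b1 a2 b2 a3 b3 x c d)) :
    ∀ g ∈ gen [a1, b1, a2 * a3, b2 * b3], g * g * g * g = 1 → g * a1 * b1 * a2 * b2 * a3 * b3 * g * b3 *
    a3 * b2 * a2 * b1 * a1 * g * a1 * b1 * a2 * b2 * a3 * b3 * g * b3 * a3 * b2 * a2 * b1 * a1 * g *
    a1 * b1 * a2 * b2 * a3 * b3 * g * b3 * a3 * b2 * a2 * b1 * a1 * g * a1 * b1 * a2 * b2 * a3 * b3
    * g * b3 * a3 * b2 * a2 * b1 * a1 = 1 → g = 1 := by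
  have := M12S.holdsB KGM_ok KGM_subs KGM_base (show Emb KGM.m _ from he) (p := (.all 1 40 (.imp (.eq [40,40,40,40] []) (.imp (.eq
      [1,2,3,4,5,6,40,6,5,4,3,2,1,40,1,2,3,4,5,6,40,6,5,4,3,2,1,40,1,2,3,4,5,6,40,6,5,4,3,2,1,40,1,2,3,4,5,6,40,6,5,4,3,2,1,40]
      []) (.eq [40] []))))) (by decide +kernel)
  simp only [Fm.sem, wv_cons, wv_nil, one_mul, upd_apply, Nat.reduceEqDiff, ↓reduceIte, gNS_1, gNS_2, gNS_3, gNS_4, gNS_5, gNS_6, gNS_7, gNS_8, gNS_9, KGM_s0, KGM_s1, KGM_s2, exists_eq_right'] at this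
  exact this

theorem f_zV (he : Emb NS.m (gNS a1 b1 a2 b2 a3 b3 x c d)) :
    ∀ g ∈ gen [c, x * a1, b1 * x * a1 * b1, b2 * b3 * c * b2 * b3, a1 * b2 * b3 * x * b2 * b3, b1 * a1 *
    b2 * b3 * x * b1 * b2 * b3], g * a1 * b1 = a1 * b1 * g → (g * g = 1 ∧ (∀ h ∈ gen [c, x * a1, b1
    * x * a1 * b1, b2 * b3 * c * b2 * b3, a1 * b2 * b3 * x * b2 * b3, b1 * a1 * b2 * b3 * x * b1 *
    b2 * b3], g * h = h * g)) := by
  have := M12S.holdsB KGM_ok KGM_subs KGM_base (show Emb KGM.m _ from he) (p := (.all 0 40 (.imp (.eq [2,1,40] [40,2,1]) (.and (.eq [40,40] []) (.all 0 41 (.eq [41,40] [40,41])))))) (by decide +kernel)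
  simp only [Fm.sem, wv_cons, wv_nil, one_mul, upd_apply, Nat.reduceEqDiff, ↓reduceIte, gNS_1, gNS_2, gNS_3, gNS_4, gNS_5, gNS_6, gNS_7, gNS_8, gNS_9, KGM_s0, KGM_s1, KGM_s2, exists_eq_right'] at this
  exact this

theorem f_cf (he : Emb NS.m (gNS a1 b1 a2 b2 a3 b3 x c d)) :
    ∀ g ∈ gen [c, x * a1, b1 * x * a1 * b1, b2 * b3 * c * b2 * b3, a1 * b2 * b3 * x * b2 * b3, b1 * a1 *
    b2 * b3 * x * b1 * b2 * b3], g * a2 * b2 * a3 * b3 = a2 * b2 * a3 * b3 * g → (g = 1 ∨ g = a1 *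
    a2 * b2 * a2 * a3 * b3 * a3 * x * b2 * a2 * b3 * a3 * x * b2 * b3 * x) := by
  have := M12S.holdsB KGM_ok KGM_subs KGM_base (show Emb KGM.m _ from he) (p := (.all 0 40 (.imp (.eq [6,5,4,3,40] [40,6,5,4,3]) (.or (.eq [40] []) (.eq [40]
      [7,6,4,7,5,6,3,4,7,5,6,5,3,4,3,1]))))) (by decide +kernel)
  simp only [Fm.sem, wv_cons, wv_nil, one_mul, upd_apply, Nat.reduceEqDiff, ↓reduceIte, gNS_1, gNS_2, gNS_3, gNS_4, gNS_5, gNS_6, gNS_7, gNS_8, gNS_9, KGM_s0, KGM_s1, KGM_s2, exists_eq_right'] at this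
  exact this

theorem f_sq (he : Emb NS.m (gNS a1 b1 a2 b2 a3 b3 x c d)) :
    ∀ g ∈ gen [c, x * a1, b1 * x * a1 * b1, b2 * b3 * c * b2 * b3, a1 * b2 * b3 * x * b2 * b3, b1 * a1 *
    b2 * b3 * x * b1 * b2 * b3], (g * a1 * b1 * a2 * b2 * a3 * b3 = a1 * b1 * a2 * b2 * a3 * b3 * g
    ∨ g * b1 * a1 * a2 * b2 * a3 * b3 = b1 * a1 * a2 * b2 * a3 * b3 * g) → (g = 1 ∨ g = a1 * a2 * b2
    * a2 * a3 * b3 * a3 * x * b2 * a2 * b3 * a3 * x * b2 * b3 * x ∨ g * g = a1 * a2 * b2 * a2 * a3 *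
    b3 * a3 * x * b2 * a2 * b3 * a3 * x * b2 * b3 * x) := by
  have := M12S.holdsB KGM_ok KGM_subs KGM_base (show Emb KGM.m _ from he) (p := (.all 0 40 (.imp (.or (.eq [6,5,4,3,2,1,40] [40,6,5,4,3,2,1]) (.eq [6,5,4,3,1,2,40]
      [40,6,5,4,3,1,2])) (.or (.eq [40] []) (.or (.eq [40] [7,6,4,7,5,6,3,4,7,5,6,5,3,4,3,1]) (.eq
      [40,40] [7,6,4,7,5,6,3,4,7,5,6,5,3,4,3,1])))))) (by decide +kernel)
  simp only [Fm.sem, wv_cons, wv_nil, one_mul, upd_apply, Nat.reduceEqDiff, ↓reduceIte, gNS_1, gNS_2, gNS_3, gNS_4, gNS_5, gNS_6, gNS_7, gNS_8, gNS_9, KGM_s0, KGM_s1, KGM_s2, exists_eq_right'] at this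
  exact this

theorem f_cm (he : Emb NS.m (gNS a1 b1 a2 b2 a3 b3 x c d)) :
    ∀ g ∈ gen [c, x * a1, b1 * x * a1 * b1, b2 * b3 * c * b2 * b3, a1 * b2 * b3 * x * b2 * b3, b1 * a1 *
    b2 * b3 * x * b1 * b2 * b3], g * a1 * b1 * a2 * b2 * a3 * b3 = a1 * b1 * a2 * b2 * a3 * b3 * g →
    ∀ h ∈ gen [c, x * a1, b1 * x * a1 * b1, b2 * b3 * c * b2 * b3, a1 * b2 * b3 * x * b2 * b3, b1 *
    a1 * b2 * b3 * x * b1 * b2 * b3], h * b1 * a1 * a2 * b2 * a3 * b3 = b1 * a1 * a2 * b2 * a3 * b3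
    * h → g * h = h * g := by
  have := M12S.holdsB KGM_ok KGM_subs KGM_base (show Emb KGM.m _ from he) (p := (.all 0 40 (.imp (.eq [6,5,4,3,2,1,40] [40,6,5,4,3,2,1]) (.all 0 41 (.imp (.eq [6,5,4,3,1,2,41]
      [41,6,5,4,3,1,2]) (.eq [41,40] [40,41])))))) (by decide +kernel)
  simp only [Fm.sem, wv_cons, wv_nil, one_mul, upd_apply, Nat.reduceEqDiff, ↓reduceIte, gNS_1, gNS_2, gNS_3, gNS_4, gNS_5, gNS_6, gNS_7, gNS_8, gNS_9, KGM_s0, KGM_s1, KGM_s2, exists_eq_right'] at this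
  exact this

theorem f_nrm (he : Emb NS.m (gNS a1 b1 a2 b2 a3 b3 x c d)) :
    ∀ h ∈ gen [a1, b1, a2 * a3, b2 * b3], h * a1 * b1 = a1 * b1 * h ∨ h * a1 * b1 = b1 * a1 * h := by
  have := M12S.holdsB KGM_ok KGM_subs KGM_base (show Emb KGM.m _ from he) (p := (.all 1 40 (.or (.eq [2,1,40] [40,2,1]) (.eq [2,1,40] [40,1,2])))) (by decide +kernel)
  simp only [Fm.sem, wv_cons, wv_nil, one_mul, upd_apply, Nat.reduceEqDiff, ↓reduceIte, gNS_1, gNS_2, gNS_3, gNS_4, gNS_5, gNS_6, gNS_7, gNS_8, gNS_9, KGM_s0, KGM_s1, KGM_s2, exists_eq_right'] at this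
  exact this

theorem f_k (he : Emb NS.m (gNS a1 b1 a2 b2 a3 b3 x c d)) :
    a2 * b3 * c * b2 * b2 * c * b3 * a2 = 1 ∧ a2 * b3 * c * b2 * a1 * b1 = a1 * b1 * a2 * b3 * c * b2 ∧
    a2 * b3 * c * b2 * a2 * b2 * c * b3 * a2 ∈ gen [c, x * a1, b1 * x * a1 * b1, b2 * b3 * c * b2 *
    b3, a1 * b2 * b3 * x * b2 * b3, b1 * a1 * b2 * b3 * x * b1 * b2 * b3] ∧ (∃ r ∈ gen [a1, a1 * a2
    * d, a1 * a2 * b2 * a2 * d * b2 * a2, a2 * x * c * d, a1 * b3 * x * b3 * c * b3 * x], a1 * b1 *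
    a3 * x * b2 * a2 * b3 * x * b1 * a1 * b2 * x * b1 * b3 * x * b2 * r = b2 * c * b3 * a2 * a1 * a2
    * b2 * a2 * a3 * b3 * a3 * x * b2 * a2 * b3 * a3 * x * b2 * b3 * x * a2 * b3 * c * b2 * a1 * b1
    * a3 * x * b2 * a2 * b3 * x * b1 * a1 * b2 * x * b1 * b3 * x * b2) := by
  have := M12S.holdsB KGM_ok KGM_subs KGM_base (show Emb KGM.m _ from he) (p := (.and (.eq [3,6,8,4,4,8,6,3] []) (.and (.eq [2,1,4,8,6,3] [4,8,6,3,2,1]) (.and (.ex 0 40 (.eq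
      [3,6,8,4,3,4,8,6,3] [40])) (.ex 2 40 (.eq [40,4,7,6,2,7,4,1,2,7,6,3,4,7,5,2,1]
      [4,7,6,2,7,4,1,2,7,6,3,4,7,5,2,1,4,8,6,3,7,6,4,7,5,6,3,4,7,5,6,5,3,4,3,1,3,6,8,4])))))) (by decide +kernel)
  simp only [Fm.sem, wv_cons, wv_nil, one_mul, upd_apply, Nat.reduceEqDiff, ↓reduceIte, gNS_1, gNS_2, gNS_3, gNS_4, gNS_5, gNS_6, gNS_7, gNS_8, gNS_9, KGM_s0, KGM_s1, KGM_s2, exists_eq_right'] at this
  exact this

theorem f_cV (he : Emb NS.m (gNS a1 b1 a2 b2 a3 b3 x c d)) :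
    Nat.card ↥(gen [c, x * a1, b1 * x * a1 * b1, b2 * b3 * c * b2 * b3, a1 * b2 * b3 * x * b2 * b3, b1 * a1 * b2 * b3 * x * b1 * b2 * b3] ⊓ centralizer {a1 * b1}) = 8 := by
  have := PM.cent_of_emb KGM_ok (show Emb KGM.m _ from he) (W := KGM.W 0) (cert := [⟨2, [1345, 1730, 1541, 770, 964, 261, 1154], [[0], [2, 4, 1, 5], [1, 2, 5, 1], [3]]⟩,
     ⟨12, [962], [[3], [0], [1]]⟩,
     ⟨21, [1154], [[0], [1]]⟩,
     ⟨3, [448], [[1]]⟩,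
     ⟨26, [], [[0]]⟩,
     ⟨11, [], [[0]]⟩,
     ⟨4, [], [[0]]⟩,
     ⟨15, [], [[0]]⟩,
     ⟨18, [], [[0]]⟩,
     ⟨6, [512], []⟩])
    (es := [1, 2]) (x := [2,1]) (N := 128) (c := 8) (ncs := [])
    ((PM.card_sub KGM_ok KGM_subs 0).trans (by decide +kernel)) (by decide +kernel)
  simpa only [wv_cons, wv_nil, one_mul, List.forall_mem_cons, List.not_mem_nil, IsEmpty.forall_iff, implies_true, and_true, gNS_1, gNS_2, gNS_3, gNS_4, gNS_5, gNS_6, gNS_7, gNS_8, gNS_9, KGM_s0, KGM_s1, KGM_s2, exists_eq_right'] using this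

theorem f_cP (he : Emb NS.m (gNS a1 b1 a2 b2 a3 b3 x c d)) :
    Nat.card ↥(gen [c, x * a1, b1 * x * a1 * b1, b2 * b3 * c * b2 * b3, a1 * b2 * b3 * x * b2 * b3, b1 * a1 * b2 * b3 * x * b1 * b2 * b3] ⊓ centralizer {a1 * b1 * a2 * b2 * a3 * b3}) = 8 := by
  have := PM.cent_of_emb KGM_ok (show Emb KGM.m _ from he) (W := KGM.W 0) (cert := [⟨1, [0, 579, 323], [[5], [4], [1], [2]]⟩,
     ⟨9, [], [[0], [1], [2], [3]]⟩,
     ⟨5, [], [[0], [1], [2], [3]]⟩,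
     ⟨2, [1536, 1345, 1731, 769, 962, 259, 1152], [[1, 2], [0, 2, 1, 3]]⟩,
     ⟨7, [1088, 705, 1473], []⟩])
    (es := [1, 2]) (x := [6,5,4,3,2,1]) (N := 128) (c := 8) (ncs := [])
    ((PM.card_sub KGM_ok KGM_subs 0).trans (by decide +kernel)) (by decide +kernel)
  simpa only [wv_cons, wv_nil, one_mul, List.forall_mem_cons, List.not_mem_nil, IsEmpty.forall_iff, implies_true, and_true, gNS_1, gNS_2, gNS_3, gNS_4, gNS_5, gNS_6, gNS_7, gNS_8, gNS_9, KGM_s0, KGM_s1, KGM_s2, exists_eq_right'] using this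

theorem f_cM (he : Emb NS.m (gNS a1 b1 a2 b2 a3 b3 x c d)) :
    Nat.card ↥(gen [c, x * a1, b1 * x * a1 * b1, b2 * b3 * c * b2 * b3, a1 * b2 * b3 * x * b2 * b3, b1 * a1 * b2 * b3 * x * b1 * b2 * b3] ⊓ centralizer {b1 * a1 * a2 * b2 * a3 * b3}) = 8 := by
  have := PM.cent_of_emb KGM_ok (show Emb KGM.m _ from he) (W := KGM.W 0) (cert := [⟨1, [0, 579, 323], [[5], [2], [1], [4]]⟩,
     ⟨9, [], [[0], [1], [2], [3]]⟩,
     ⟨5, [], [[0], [1], [2], [3]]⟩,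
     ⟨2, [1536, 1729, 1346, 257, 962, 771, 1154], [[2, 3], [0, 1, 2, 0, 2, 0]]⟩,
     ⟨23, [704, 449, 1089], []⟩])
    (es := [1, 2]) (x := [6,5,4,3,1,2]) (N := 128) (c := 8) (ncs := [])
    ((PM.card_sub KGM_ok KGM_subs 0).trans (by decide +kernel)) (by decide +kernel)
  simpa only [wv_cons, wv_nil, one_mul, List.forall_mem_cons, List.not_mem_nil, IsEmpty.forall_iff, implies_true, and_true, gNS_1, gNS_2, gNS_3, gNS_4, gNS_5, gNS_6, gNS_7, gNS_8, gNS_9, KGM_s0, KGM_s1, KGM_s2, exists_eq_right'] using this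

end Cfsg.Lib.S62.KG
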